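import Cfsg.Agent.CubicBlock.Linear

/-!
# An element of order three with exactly one Jordan block, of size three

`N = ρ b - 1` satisfies `N³ = 0`, `N² ≠ 0` and has rank two; so of two complementary `b`-invariant
subspaces one is centralised by `b`.
-/

set_option autoImplicit false
set_option linter.unusedSectionVars false

namespace Cfsg.Lib.CubicBlock

open Module

variable {S : Type*} [Group S] [Finite S] {E : Type*} [AddCommGroup E] [Module (ZMod 3) E] [Finite E]
  {ρ : Representation (ZMod 3) S E} {b : S}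

variable (ρ) in
/-- `ρ b - 1`. -/
abbrev nil (b : S) : E →ₗ[ZMod 3] E := ρ b - 1

/-- One cubic block. -/
structure IsBlock (ρ : Representation (ZMod 3) S E) (b : S) : Prop where
  inj : Function.Injective ρ
  cube : b ^ 3 = 1
  rank : finrank (ZMod 3) (LinearMap.range (nil ρ b)) = 2
  sq : ∃ v, nil ρ b (nil ρ b v) ≠ 0

theorem nil_apply (b : S) (v : E) : nil ρ b v = ρ b v - v := rfl

theorem three_smul (v : E) : (3 : ℕ) • v = 0 := by
  rw [← Nat.cast_smul_eq_nsmul (ZMod 3), ZMod.natCast_self, zero_smul]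

theorem rho_eq_add (b : S) (v : E) : ρ b v = v + nil ρ b v := by rw [nil_apply]; abel

theorem nil_cube (h3 : b ^ 3 = 1) (v : E) : nil ρ b (nil ρ b (nil ρ b v)) = 0 := by
  have hb : ρ b (ρ b (ρ b v)) = v := by
    rw [← rho_mul, ← rho_mul, show b * b * b = b ^ 3 by rw [pow_succ, pow_two], h3, map_one]; rfl
  simp only [nil_apply, map_sub, hb]
  have h := three_smul (ρ b v)
  have h' := three_smul (ρ b (ρ b v))
  linear_combination (norm := module) h - h'

/-- A two-dimensional or larger piece: a `b`-invariant subspace whose image has dimension at most one is killed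
twice. -/
theorem nil_sq_eq_zero (h3 : b ^ 3 = 1) {U : Submodule (ZMod 3) E} (hU : ∀ v ∈ U, nil ρ b v ∈ U)
    (hr : finrank (ZMod 3) (U.map (nil ρ b)) ≤ 1) {v : E} (hv : v ∈ U) : nil ρ b (nil ρ b v) = 0 := by
  by_contra hne
  have hmem : nil ρ b (nil ρ b v) ∈ U.map (nil ρ b) := ⟨_, hU v hv, rfl⟩
  have hmem' : nil ρ b v ∈ U.map (nil ρ b) := ⟨v, hv, rfl⟩
  obtain ⟨c, hc⟩ := (finrank_le_one_iff.mp hr)
  obtain ⟨x, hx⟩ := hc ⟨_, hmem⟩
  obtain ⟨y, hy⟩ := hc ⟨_, hmem'⟩
  replace hx : x • (c : E) = nil ρ b (nil ρ b v) := congrArg Subtype.val hx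
  replace hy : y • (c : E) = nil ρ b v := congrArg Subtype.val hy
  have hx0 : x ≠ 0 := fun h => hne (by rw [← hx, h, zero_smul])
  have e : nil ρ b (nil ρ b v) = (x * y⁻¹) • nil ρ b v := by
    rcases eq_or_ne y 0 with h | h
    · exact absurd (by rw [← hy, h, zero_smul, map_zero]) hne
    · rw [← hy, smul_smul, mul_assoc, inv_mul_cancel₀ h, mul_one, hy, hx]
  have e2 := congrArg (nil ρ b) e
  rw [nil_cube h3, map_smul] at e2
  rcases smul_eq_zero.mp e2.symm with h | h
  · exact hne (by rw [e, h, zero_smul])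
  · exact hne h

/-- Of two complementary `b`-invariant subspaces one is centralised by `b`. -/
theorem IsBlock.one_block (hb : IsBlock ρ b) {U V : Submodule (ZMod 3) E} (hUV : IsCompl U V)
    (hU : ∀ v ∈ U, ρ b v ∈ U) (hV : ∀ v ∈ V, ρ b v ∈ V) :
    (∀ v ∈ U, ρ b v = v) ∨ (∀ v ∈ V, ρ b v = v) := by
  classical
  have hU' : ∀ v ∈ U, nil ρ b v ∈ U := fun v hv => U.sub_mem (hU v hv) hv
  have hV' : ∀ v ∈ V, nil ρ b v ∈ V := fun v hv => V.sub_mem (hV v hv) hv
  have hdisj : U.map (nil ρ b) ⊓ V.map (nil ρ b) = ⊥ := by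
    refine le_bot_iff.mp (le_trans (inf_le_inf ?_ ?_) hUV.disjoint.le_bot)
    · rintro _ ⟨v, hv, rfl⟩; exact hU' v hv
    · rintro _ ⟨v, hv, rfl⟩; exact hV' v hv
  have hsup : U.map (nil ρ b) ⊔ V.map (nil ρ b) = LinearMap.range (nil ρ b) := by
    rw [← Submodule.map_sup, hUV.sup_eq_top, Submodule.map_top]
  have hdim := Submodule.finrank_sup_add_finrank_inf_eq (U.map (nil ρ b)) (V.map (nil ρ b))
  rw [hdisj, finrank_bot, hsup, hb.rank] at hdim
  rcases Nat.lt_or_ge (finrank (ZMod 3) (U.map (nil ρ b))) 1 with h0 | h0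
  · left
    intro v hv
    have hz : U.map (nil ρ b) = ⊥ := Submodule.finrank_eq_zero.mp (by omega)
    have : nil ρ b v ∈ (⊥ : Submodule (ZMod 3) E) := hz ▸ ⟨v, hv, rfl⟩
    exact sub_eq_zero.mp ((Submodule.mem_bot _).mp this)
  rcases Nat.lt_or_ge (finrank (ZMod 3) (V.map (nil ρ b))) 1 with h1 | h1
  · right
    intro v hv
    have hz : V.map (nil ρ b) = ⊥ := Submodule.finrank_eq_zero.mp (by omega)
    have : nil ρ b v ∈ (⊥ : Submodule (ZMod 3) E) := hz ▸ ⟨v, hv, rfl⟩
    exact sub_eq_zero.mp ((Submodule.mem_bot _).mp this)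
  obtain ⟨w, hw⟩ := hb.sq
  obtain ⟨u, hu, x, hx, rfl⟩ := Submodule.mem_sup.mp (show w ∈ U ⊔ V by rw [hUV.sup_eq_top]; trivial)
  refine absurd ?_ hw
  rw [map_add, map_add, nil_sq_eq_zero hb.cube hU' (by omega) hu,
    nil_sq_eq_zero hb.cube hV' (by omega) hx, add_zero]

/-- The image of `ρ b - 1` lies in every `b`-invariant subspace with a complement centralised by `b`. -/
theorem range_le_of_fix {U V : Submodule (ZMod 3) E} (hUV : IsCompl U V) (hU : ∀ v ∈ U, ρ b v ∈ U)
    (hV : ∀ v ∈ V, ρ b v = v) : LinearMap.range (nil ρ b) ≤ U := by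
  rintro _ ⟨w, rfl⟩
  obtain ⟨u, hu, x, hx, rfl⟩ := Submodule.mem_sup.mp (show w ∈ U ⊔ V by rw [hUV.sup_eq_top]; trivial)
  rw [map_add, nil_apply b x, hV x hx, sub_self, add_zero]
  exact U.sub_mem (hU u hu) hu

/-- A subgroup normalised but not centralised by `b`, of order prime to three: `b` centralises its fixed space and
moves everything into its moved space. -/
theorem IsBlock.fixed_moved (hb : IsBlock ρ b) {H : Subgroup S} (hH : ¬ 3 ∣ Nat.card H)
    (hn : b ∈ Subgroup.normalizer (H : Set S)) (hc : b ∉ Subgroup.centralizer (H : Set S)) :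
    (∀ v ∈ fixed ρ H, ρ b v = v) ∧ LinearMap.range (nil ρ b) ≤ moved ρ H := by
  have hcompl := isCompl_fixed_moved (ρ := ρ) hH
  have hf : ∀ v ∈ fixed ρ H, ρ b v ∈ fixed ρ H := fun v hv => map_fixed (normal_conj_inv hn).2 hv
  have hm : ∀ v ∈ moved ρ H, ρ b v ∈ moved ρ H := fun v hv => map_moved (normal_conj_inv hn).1 hv
  rcases hb.one_block hcompl hf hm with h | h
  · exact ⟨h, range_le_of_fix hcompl.symm hm h⟩
  · refine absurd (Subgroup.mem_centralizer_iff.mpr fun g hg => hb.inj ?_) hc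
    refine LinearMap.ext fun v => ?_
    rw [rho_mul, rho_mul]
    obtain ⟨u, hu, w, hw, rfl⟩ :=
      Submodule.mem_sup.mp (show v ∈ fixed ρ H ⊔ moved ρ H by rw [hcompl.sup_eq_top]; trivial)
    have hgw : ρ g w ∈ moved ρ H := by simpa using (moved ρ H).add_mem (sub_mem_moved hg w) hw
    rw [map_add, map_add, map_add, map_add, mem_fixed.mp hu g hg, mem_fixed.mp (hf u hu) g hg, h w hw,
      h _ hgw]

/-- The four-dimensional space carrying a commutator `x⁻¹ (b x b⁻¹)`. -/
def support (ρ : Representation (ZMod 3) S E) (b x : S) : Submodule (ZMod 3) E :=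
  LinearMap.range (nil ρ b) ⊔ (LinearMap.range (nil ρ b)).map (ρ x⁻¹)

theorem b_mem_moveSub {U : Submodule (ZMod 3) E} (h : LinearMap.range (nil ρ b) ≤ U) : b ∈ moveSub ρ U :=
  fun v => h ⟨v, rfl⟩

theorem b_mem_support (x : S) : b ∈ moveSub ρ (support ρ b x) := b_mem_moveSub le_sup_left

theorem comm_mem_support (x : S) : x⁻¹ * (b * x * b⁻¹) ∈ moveSub ρ (support ρ b x) := by
  have h : x⁻¹ * b * x ∈ moveSub ρ (support ρ b x) := fun v => by
    refine Submodule.mem_sup_right ⟨nil ρ b (ρ x v), ⟨_, rfl⟩, ?_⟩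
    rw [nil_apply, map_sub, rho_inv_cancel, rho_mul, rho_mul]
  have := mul_mem h (inv_mem (b_mem_support (ρ := ρ) x))
  simpa [mul_assoc] using this

theorem IsBlock.finrank_support (hb : IsBlock ρ b) (x : S) : finrank (ZMod 3) (support ρ b x) ≤ 4 := by
  have h1 := Submodule.finrank_add_le_finrank_add_finrank (LinearMap.range (nil ρ b))
    ((LinearMap.range (nil ρ b)).map (ρ x⁻¹))
  have h2 := Submodule.finrank_map_le (ρ x⁻¹) (LinearMap.range (nil ρ b))
  rw [hb.rank] at h1 h2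
  show finrank (ZMod 3) ↥(LinearMap.range (nil ρ b) ⊔ _) ≤ 4
  omega

end Cfsg.Lib.CubicBlock
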