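import Cfsg.Agent.CubicBlock.Module

/-!
# The centre and the second centre of the two-group
-/

set_option autoImplicit false
set_option linter.unusedSectionVars false

namespace Cfsg.Lib.CubicBlock

open Module

variable {S : Type*} [Group S] [Finite S] {E : Type*} [AddCommGroup E] [Module (ZMod 3) E] [Finite E]
  {ρ : Representation (ZMod 3) S E} {b q : S} {R : Subgroup S}

/-- An abelian two-group normalised and moved by `b` contains a moved four group. -/
theorem exists_four (hb3 : b ^ 3 = 1) {A : Subgroup S} (hA : IsPGroup 2 A) (hab : ∀ g ∈ A, ∀ h ∈ A, g * h = h * g)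
    (hn : b ∈ Subgroup.normalizer (A : Set S)) {x : S} (hx : x ∈ A) (hne : b * x * b⁻¹ ≠ x) :
    ∃ u ∈ A, IsFour b u := by
  classical
  obtain ⟨k, hk⟩ := hA ⟨x, hx⟩
  replace hk : x ^ 2 ^ k = 1 := by simpa using congrArg Subtype.val hk
  induction k generalizing x with
  | zero =>
    rw [pow_zero, pow_one] at hk
    exact absurd (by rw [hk]; group) hne
  | succ k ih =>
    by_cases h2 : b * (x * x) * b⁻¹ = x * x
    swap
    · exact ih (A.mul_mem hx hx) h2 (by rw [← pow_two, ← pow_mul, ← pow_succ']; exact hk)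
    set y := b * x * b⁻¹ with hy
    have hyA : y ∈ A := (normal_conj_inv hn).1 x hx
    set u := x⁻¹ * y with hu
    have huA : u ∈ A := A.mul_mem (A.inv_mem hx) hyA
    have huu : u * u = 1 := by
      have e : x⁻¹ * y = y * x⁻¹ := hab _ (A.inv_mem hx) _ hyA
      calc u * u = x⁻¹ * (y * x⁻¹) * y := by rw [hu]; group
        _ = x⁻¹ * x⁻¹ * (y * y) := by rw [← e]; group
        _ = 1 := by
          rw [show y * y = b * (x * x) * b⁻¹ by rw [hy]; group, h2]
          group
    have h3 : ¬ 3 ∣ Nat.card A := not_three_dvd_of_isPGroup Nat.prime_two (by norm_num) hA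
    have hu1 : u ≠ 1 := fun h => hne (inv_mul_eq_one.mp h).symm
    refine ⟨u, huA, huu, fun h => hu1 (comm_eq_one_of_fixed hb3 h3 hu huA h),
      hab u huA _ ((normal_conj_inv hn).1 u huA), ?_⟩
    set u' := b * u * b⁻¹ with hu'
    have hu'A : u' ∈ A := (normal_conj_inv hn).1 u huA
    have hprod : u * u' * (b * u' * b⁻¹) = 1 := by
      calc u * u' * (b * u' * b⁻¹)
          = x⁻¹ * (b * (b * (b * x * b⁻¹) * b⁻¹) * b⁻¹) := by rw [hu', hu, hy]; group
        _ = 1 := by rw [conj_conj_conj hb3, inv_mul_cancel]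
    have hu'2 : u' * u' = 1 := by rw [hu', show b * u * b⁻¹ * (b * u * b⁻¹) = b * (u * u) * b⁻¹ by group, huu]; group
    calc b * u' * b⁻¹ = (u * u')⁻¹ := (inv_eq_of_mul_eq_one_right hprod).symm
      _ = u' * u := by rw [mul_inv_rev, inv_eq_of_mul_eq_one_right hu'2, inv_eq_of_mul_eq_one_right huu]
      _ = u * u' := hab u' hu'A u huA

namespace Setting

variable (h : Setting ρ b q R)
include h

/-- A central involution acts as `-1` on the moved space. -/
theorem neg_of_central {z : S} (hz : z ∈ R) (hzc : ∀ r ∈ R, r * z = z * r) (hz2 : z * z = 1) (hz1 : z ≠ 1)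
    (hbz : b * z * b⁻¹ = z) {v : E} (hv : v ∈ moved ρ R) : ρ z v = -v := by
  have hn : b ∈ Subgroup.normalizer (Subgroup.zpowers z : Set S) := b_mem_normalizer h.block.cube fun g hg => by
    obtain ⟨n, rfl⟩ := Subgroup.mem_zpowers_iff.mp hg
    rw [← conj_zpow, hbz]
    exact hg
  have hbot := h.fixed_inf_moved (Subgroup.zpowers_le.mpr hz) ⟨z, Subgroup.mem_zpowers z, hz1⟩
    (fun r hr g hg => by
      obtain ⟨n, rfl⟩ := Subgroup.mem_zpowers_iff.mp hg
      exact ((Commute.zpow_right (hzc r hr) n)).eq) hn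
  have hmem : v + ρ z v ∈ fixed ρ (Subgroup.zpowers z) ⊓ moved ρ R :=
    ⟨mem_fixed_zpowers.mpr (by rw [map_add, ← rho_mul, hz2, map_one, Module.End.one_apply, add_comm]),
      (moved ρ R).add_mem hv (h.map_moved_R hz hv)⟩
  rw [hbot, Submodule.mem_bot, add_comm] at hmem
  exact eq_neg_of_add_eq_zero_left hmem

/-- The centre is centralised by `b` in the non-abelian case. -/
theorem centre_fixed (hna : ¬ ∀ g ∈ R, ∀ g' ∈ R, g * g' = g' * g) {x : S} (hx : x ∈ R)
    (hxc : ∀ r ∈ R, r * x = x * r) : b * x * b⁻¹ = x := by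
  by_contra hne
  set A := R ⊓ Subgroup.centralizer (R : Set S) with hA
  have hab : ∀ g ∈ A, ∀ g' ∈ A, g * g' = g' * g := fun g hg g' hg' =>
    Subgroup.mem_centralizer_iff.mp hg'.2 g hg.1
  have hn : b ∈ Subgroup.normalizer (A : Set S) := b_mem_normalizer h.block.cube fun g hg =>
    ⟨h.b_inv hg.1, Subgroup.mem_centralizer_iff.mpr fun r hr => by
      have := Subgroup.mem_centralizer_iff.mp hg.2 _ ((normal_conj_inv h.normal).2 r hr)
      calc r * (b * g * b⁻¹) = b * (b⁻¹ * r * b * g) * b⁻¹ := by group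
        _ = b * (g * (b⁻¹ * r * b)) * b⁻¹ := by rw [this]
        _ = b * g * b⁻¹ * r := by group⟩
  obtain ⟨u, hu, hfour⟩ := exists_four h.block.cube (h.isTwo.to_le inf_le_left) hab hn
    (x := x) ⟨hx, Subgroup.mem_centralizer_iff.mpr hxc⟩ hne
  have hle : fourSub b u ≤ A := fun g hg => by
    rcases hfour.mem_iff.mp hg with hg' | hg' | hg' | hg' <;> rw [hg']
    · exact A.one_mem
    · exact hu
    · exact (normal_conj_inv hn).1 u hu
    · exact A.mul_mem hu ((normal_conj_inv hn).1 u hu)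
  have heq := h.eq_four hfour hu.1 fun r hr g hg => Subgroup.mem_centralizer_iff.mp (hle hg).2 r hr
  exact hna fun g hg g' hg' => hfour.commute (heq.le hg) (heq.le hg')

/-- The central involution. -/
theorem exists_involution (hna : ¬ ∀ g ∈ R, ∀ g' ∈ R, g * g' = g' * g) :
    ∃ z, z ∈ R ∧ (∀ r ∈ R, r * z = z * r) ∧ z * z = 1 ∧ z ≠ 1 ∧ b * z * b⁻¹ = z ∧
      ∀ w ∈ R, (∀ r ∈ R, r * w = w * r) → w * w = 1 → w = 1 ∨ w = z := by
  haveI : Fact (Nat.Prime 2) := ⟨Nat.prime_two⟩
  haveI : Nontrivial R := ⟨⟨⟨q, h.mem⟩, 1, fun e => h.four_ne_one h.four (congrArg Subtype.val e)⟩⟩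
  haveI := h.isTwo.center_nontrivial
  obtain ⟨k, hk⟩ := IsPGroup.iff_card.mp (h.isTwo.to_subgroup (Subgroup.center R))
  have hdvd : 2 ∣ Nat.card (Subgroup.center R) := by
    rw [hk]
    refine dvd_pow_self 2 fun h0 => ?_
    rw [h0, pow_zero] at hk
    exact absurd hk (Finite.one_lt_card).ne'
  obtain ⟨⟨⟨z, hzR⟩, hzc⟩, hzo⟩ := exists_prime_orderOf_dvd_card' 2 hdvd
  rw [Subgroup.orderOf_mk, Subgroup.orderOf_mk] at hzo
  have hc : ∀ r ∈ R, r * z = z * r := fun r hr =>
    congrArg Subtype.val (Subgroup.mem_center_iff.mp hzc ⟨r, hr⟩)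
  have hz2 : z * z = 1 := by rw [← pow_two, ← hzo, pow_orderOf_eq_one]
  have hz1 : z ≠ 1 := fun e => by rw [e, orderOf_one] at hzo; omega
  refine ⟨z, hzR, hc, hz2, hz1, h.centre_fixed hna hzR hc, fun w hw hwc hw2 => ?_⟩
  rcases eq_or_ne w 1 with hw1 | hw1
  · exact Or.inl hw1
  · right
    refine h.eq_of hw hzR fun v hv => ?_
    rw [h.neg_of_central hw hwc hw2 hw1 (h.centre_fixed hna hw hwc) hv,
      h.neg_of_central hzR hc hz2 hz1 (h.centre_fixed hna hzR hc) hv]

end Setting

/-- `x` commutes with every element of `C` up to the involution `z`. -/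
def NearCentral (z x : S) (C : Subgroup S) : Prop := ∀ r ∈ C, x * r * x⁻¹ = r ∨ x * r * x⁻¹ = z * r

/-- The elements of `R` which are nearly central. -/
def secondCentre (R : Subgroup S) (z : S) (hz2 : z * z = 1) (hzc : ∀ r ∈ R, r * z = z * r) : Subgroup S where
  carrier := {x | x ∈ R ∧ NearCentral z x R}
  one_mem' := ⟨R.one_mem, fun r _ => Or.inl (by group)⟩
  mul_mem' := fun {x y} hx hy => ⟨R.mul_mem hx.1 hy.1, fun r hr => by
    have hxz := hzc x hx.1
    have e : x * y * r * (x * y)⁻¹ = x * (y * r * y⁻¹) * x⁻¹ := by group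
    rw [e]
    rcases hy.2 r hr with h1 | h1 <;> rw [h1]
    · exact hx.2 r hr
    · rw [show x * (z * r) * x⁻¹ = (x * z) * r * x⁻¹ by group, hxz,
        show z * x * r * x⁻¹ = z * (x * r * x⁻¹) by group]
      rcases hx.2 r hr with h2 | h2 <;> rw [h2]
      · exact Or.inr rfl
      · left; rw [← mul_assoc, hz2, one_mul]⟩
  inv_mem' := fun {x} hx => ⟨R.inv_mem hx.1, fun r hr => by
    set r' := x⁻¹ * r * x with hr'
    have hr'R : r' ∈ R := R.mul_mem (R.mul_mem (R.inv_mem hx.1) hr) hx.1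
    rw [show x⁻¹ * r * x⁻¹⁻¹ = r' by rw [hr', inv_inv]]
    rcases hx.2 r' hr'R with h1 | h1
    · left
      calc r' = x * r' * x⁻¹ := h1.symm
        _ = r := by rw [hr']; group
    · right
      calc r' = z * (z * r') := by rw [← mul_assoc, hz2, one_mul]
        _ = z * (x * r' * x⁻¹) := by rw [h1]
        _ = z * r := by rw [hr']; group⟩

theorem mem_secondCentre {z x : S} {hz2 : z * z = 1} {hzc : ∀ r ∈ R, r * z = z * r} :
    x ∈ secondCentre R z hz2 hzc ↔ x ∈ R ∧ NearCentral z x R := Iff.rfl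

/-- A two-group whose centre is not everything has a non-central element commuting with everything up to central
involutions. -/
theorem exists_near_central {C : Subgroup S} (hC : IsPGroup 2 C) (hna : ¬ ∀ g ∈ C, ∀ g' ∈ C, g * g' = g' * g) :
    ∃ x ∈ C, (∃ c ∈ C, x * c ≠ c * x) ∧
      ∀ c ∈ C, (∀ g ∈ C, g * (x * c * x⁻¹ * c⁻¹) = x * c * x⁻¹ * c⁻¹ * g) ∧
        (x * c * x⁻¹ * c⁻¹) * (x * c * x⁻¹ * c⁻¹) = 1 := by
  haveI : Fact (Nat.Prime 2) := ⟨Nat.prime_two⟩
  set Z := Subgroup.center C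
  have hQ : IsPGroup 2 (C ⧸ Z) := hC.to_quotient Z
  haveI : Nontrivial (C ⧸ Z) := by
    rw [QuotientGroup.nontrivial_iff]
    intro htop
    exact hna fun g hg g' hg' => by
      have : (⟨g', hg'⟩ : C) ∈ Z := htop ▸ Subgroup.mem_top _
      exact congrArg Subtype.val (Subgroup.mem_center_iff.mp this ⟨g, hg⟩)
  haveI := hQ.center_nontrivial
  obtain ⟨k, hk⟩ := IsPGroup.iff_card.mp (hQ.to_subgroup (Subgroup.center (C ⧸ Z)))
  have hdvd : 2 ∣ Nat.card (Subgroup.center (C ⧸ Z)) := by
    rw [hk]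
    refine dvd_pow_self 2 fun h0 => ?_
    rw [h0, pow_zero] at hk
    exact absurd hk (Finite.one_lt_card).ne'
  obtain ⟨⟨y, hyc⟩, hyo⟩ := exists_prime_orderOf_dvd_card' 2 hdvd
  rw [Subgroup.orderOf_mk] at hyo
  obtain ⟨x, rfl⟩ := QuotientGroup.mk'_surjective Z y
  have hx2 : x * x ∈ Z := by
    rw [← QuotientGroup.eq_one_iff, ← pow_two]
    show QuotientGroup.mk' Z (x ^ 2) = 1
    rw [map_pow, ← hyo, pow_orderOf_eq_one]
  have hxZ : x ∉ Z := fun hxZ => by
    rw [show QuotientGroup.mk' Z x = 1 from (QuotientGroup.eq_one_iff x).mpr hxZ, orderOf_one] at hyo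
    omega
  have hcomm : ∀ c : C, x * c * x⁻¹ * c⁻¹ ∈ Z := fun c => by
    rw [← QuotientGroup.eq_one_iff]
    show QuotientGroup.mk' Z (x * c * x⁻¹ * c⁻¹) = 1
    rw [map_mul, map_mul, map_mul, ← Subgroup.mem_center_iff.mp hyc (QuotientGroup.mk' Z c), map_inv, map_inv,
      mul_assoc, mul_assoc, mul_inv_cancel_left, mul_inv_cancel]
  refine ⟨x, x.2, ?_, fun c hc => ⟨fun g hg => congrArg Subtype.val
    (Subgroup.mem_center_iff.mp (hcomm ⟨c, hc⟩) ⟨g, hg⟩), ?_⟩⟩
  · by_contra hall
    push Not at hall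
    exact hxZ (Subgroup.mem_center_iff.mpr fun g => Subtype.ext (hall g g.2).symm)
  · set c' : C := ⟨c, hc⟩
    set d := x * c' * x⁻¹ * c'⁻¹ with hd
    have hdz : x * d = d * x := Subgroup.mem_center_iff.mp (hcomm c') x
    have h2 : d * d = 1 := by
      have hxx : x * x * c' = c' * (x * x) := (Subgroup.mem_center_iff.mp hx2 c').symm
      calc d * d = d * (x * c' * x⁻¹ * c'⁻¹) := by rw [← hd]
        _ = (d * x) * c' * x⁻¹ * c'⁻¹ := by group
        _ = (x * d) * c' * x⁻¹ * c'⁻¹ := by rw [hdz]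
        _ = (x * x * c') * x⁻¹ * x⁻¹ * c'⁻¹ := by rw [hd]; group
        _ = (c' * (x * x)) * x⁻¹ * x⁻¹ * c'⁻¹ := by rw [hxx]
        _ = 1 := by group
    exact congrArg Subtype.val h2

namespace Setting

variable (h : Setting ρ b q R)
include h

/-- In the non-abelian case there is a moved four group in the second centre. -/
theorem exists_four_second (hna : ¬ ∀ g ∈ R, ∀ g' ∈ R, g * g' = g' * g) {z : S} (hzR : z ∈ R)
    (hzc : ∀ r ∈ R, r * z = z * r) (hz2 : z * z = 1) (hz1 : z ≠ 1) (hbz : b * z * b⁻¹ = z)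
    (huniq : ∀ w ∈ R, (∀ r ∈ R, r * w = w * r) → w * w = 1 → w = 1 ∨ w = z) :
    ∃ q₁, IsFour b q₁ ∧ q₁ ∈ R ∧ NearCentral z q₁ R := by
  have hb3 := h.block.cube
  set U := secondCentre R z hz2 hzc with hU
  have hUb : b ∈ Subgroup.normalizer (U : Set S) := b_mem_normalizer hb3 fun g hg =>
    mem_secondCentre.mpr ⟨h.b_inv (mem_secondCentre.mp hg).1, fun r hr => by
      set r' := b⁻¹ * r * b with hr'
      have hr'R : r' ∈ R := (normal_conj_inv h.normal).2 r hr
      have e : b * g * b⁻¹ * r * (b * g * b⁻¹)⁻¹ = b * (g * r' * g⁻¹) * b⁻¹ := by rw [hr']; group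
      rw [e]
      rcases (mem_secondCentre.mp hg).2 r' hr'R with h1 | h1 <;> rw [h1]
      · left; rw [hr']; group
      · right; rw [show b * (z * r') * b⁻¹ = (b * z * b⁻¹) * (b * r' * b⁻¹) by group, hbz, hr']; group⟩
  have hUle : U ≤ R := fun g hg => (mem_secondCentre.mp hg).1
  -- a commuting pair gives a four group
  have hpair : ∀ x ∈ U, x⁻¹ * (b * x * b⁻¹) ≠ 1 →
      Commute (x⁻¹ * (b * x * b⁻¹)) (b * (x⁻¹ * (b * x * b⁻¹)) * b⁻¹) → ∃ q₁, IsFour b q₁ ∧ q₁ ∈ R ∧ NearCentral z q₁ R := by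
    intro x hx hu1 hcomm
    set u := x⁻¹ * (b * x * b⁻¹) with hu
    set v := b * u * b⁻¹ with hv
    have huU : u ∈ U := U.mul_mem (U.inv_mem hx) ((normal_conj_inv hUb).1 x hx)
    have hvU : v ∈ U := (normal_conj_inv hUb).1 u huU
    have hw : b * v * b⁻¹ = (u * v)⁻¹ := by
      refine (inv_eq_of_mul_eq_one_right ?_).symm
      calc u * v * (b * v * b⁻¹) = x⁻¹ * (b * (b * (b * x * b⁻¹) * b⁻¹) * b⁻¹) := by rw [hv, hu]; group
        _ = 1 := by rw [conj_conj_conj hb3, inv_mul_cancel]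
    set A := Subgroup.closure ({u, v} : Set S) with hA
    have hAU : A ≤ U := (Subgroup.closure_le _).mpr (by rintro g (hg | hg) <;> rw [show g = _ from hg] <;> assumption)
    have huA : u ∈ A := Subgroup.subset_closure (by simp)
    have hvA : v ∈ A := Subgroup.subset_closure (by simp)
    have hab : ∀ g ∈ A, ∀ g' ∈ A, g * g' = g' * g := by
      haveI := Subgroup.isMulCommutative_closure (k := ({u, v} : Set S)) (by
        rintro g (hg | hg) g' (hg' | hg') <;> rw [show g = _ from hg, show g' = _ from hg']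
        · exact hcomm.eq
        · exact hcomm.eq.symm)
      exact fun g hg g' hg' => congrArg Subtype.val (mul_comm' (⟨g, hg⟩ : A) ⟨g', hg'⟩)
    have hAb : b ∈ Subgroup.normalizer (A : Set S) := b_mem_normalizer hb3 fun g hg => by
      induction hg using Subgroup.closure_induction with
      | mem g hg =>
        rcases hg with hg | hg <;> rw [show g = _ from hg]
        · exact hvA
        · rw [hw]; exact A.inv_mem (A.mul_mem huA hvA)
      | one => simp
      | mul g g' _ _ ih ih' =>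
        rw [show b * (g * g') * b⁻¹ = (b * g * b⁻¹) * (b * g' * b⁻¹) by group]; exact A.mul_mem ih ih'
      | inv g _ ih => rw [show b * g⁻¹ * b⁻¹ = (b * g * b⁻¹)⁻¹ by group]; exact A.inv_mem ih
    have hne : b * u * b⁻¹ ≠ u := fun e => hu1
      (comm_eq_one_of_fixed hb3 (not_three_dvd_of_isPGroup Nat.prime_two (by norm_num) (h.isTwo.to_le hUle))
        hu huU e)
    obtain ⟨q₁, hq₁, hfour⟩ := exists_four hb3 (h.isTwo.to_le (hAU.trans hUle)) hab hAb huA hne
    exact ⟨q₁, hfour, hUle (hAU hq₁), (mem_secondCentre.mp (hAU hq₁)).2⟩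
  -- nearly central elements fixed by `b` are central
  have hmoved : ∀ x ∈ U, (∃ c ∈ R, x * c ≠ c * x) → x⁻¹ * (b * x * b⁻¹) ≠ 1 := by
    intro x hx hnc he
    have hfix : b * x * b⁻¹ = x := (inv_mul_eq_one.mp he).symm
    obtain ⟨c, hc, hne⟩ := hnc
    apply hne
    have hall : ∀ g ∈ commB b R, x * g = g * x := by
      intro g hg
      induction hg using Subgroup.closure_induction with
      | mem g hg =>
        obtain ⟨r, hr, rfl⟩ := hg
        have key : x * (b * r * b⁻¹) * x⁻¹ = b * (x * r * x⁻¹) * b⁻¹ := by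
          conv_lhs => rw [← hfix]
          group
        have e : x * (r⁻¹ * (b * r * b⁻¹)) * x⁻¹ = r⁻¹ * (b * r * b⁻¹) := by
          rw [show x * (r⁻¹ * (b * r * b⁻¹)) * x⁻¹ = (x * r * x⁻¹)⁻¹ * (x * (b * r * b⁻¹) * x⁻¹) by group, key]
          rcases (mem_secondCentre.mp hx).2 r hr with h1 | h1 <;> rw [h1]
          rw [show b * (z * r) * b⁻¹ = (b * z * b⁻¹) * (b * r * b⁻¹) by group, hbz]
          group
        exact mul_inv_eq_iff_eq_mul.mp e
      | one => simp
      | mul g g' _ _ ih ih' => rw [← mul_assoc, ih, mul_assoc, ih', mul_assoc]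
      | inv g _ ih => exact (Commute.inv_right ih).eq
    exact hall c (h.gen.le hc)
  -- a first nearly central element
  obtain ⟨x, hxR, hxnc, hxd⟩ := exists_near_central h.isTwo hna
  have hxU : x ∈ U := mem_secondCentre.mpr ⟨hxR, fun r hr => by
    obtain ⟨h1, h2⟩ := hxd r hr
    rcases huniq _ (R.mul_mem (R.mul_mem (R.mul_mem hxR hr) (R.inv_mem hxR)) (R.inv_mem hr)) h1 h2 with h3 | h3
    · exact Or.inl (mul_inv_eq_one.mp h3)
    · exact Or.inr (mul_inv_eq_iff_eq_mul.mp h3)⟩
  have hu1 := hmoved x hxU hxnc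
  set u := x⁻¹ * (b * x * b⁻¹) with hu
  set v := b * u * b⁻¹ with hv
  by_cases hcomm : Commute u v
  · exact hpair x hxU hu1 hcomm
  clear_value u v
  have huU : u ∈ U := by rw [hu]; exact U.mul_mem (U.inv_mem hxU) ((normal_conj_inv hUb).1 x hxU)
  have hvU : v ∈ U := by rw [hv]; exact (normal_conj_inv hUb).1 u huU
  have huR := hUle huU
  have hvR := hUle hvU
  have huv : u * v * u⁻¹ = z * v := by
    rcases (mem_secondCentre.mp huU).2 v hvR with h1 | h1
    · exact absurd (mul_inv_eq_iff_eq_mul.mp h1) hcomm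
    · exact h1
  have hzz : ∀ g : S, z * (z * g) = g := fun g => by rw [← mul_assoc, hz2, one_mul]
  have hvu : v * u * v⁻¹ = z * u := by
    rcases (mem_secondCentre.mp hvU).2 u huR with h1 | h1
    · exact absurd (mul_inv_eq_iff_eq_mul.mp h1).symm hcomm
    · exact h1
  set C := R ⊓ Subgroup.centralizer ({u, v} : Set S) with hC
  have hCmem : ∀ {g : S}, g ∈ R → g * u = u * g → g * v = v * g → g ∈ C := fun hg h1 h2 =>
    ⟨hg, Subgroup.mem_centralizer_iff.mpr (by rintro g (hg | hg) <;> rw [show g = _ from hg] <;>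
      first | exact h1.symm | exact h2.symm)⟩
  have hCu : ∀ g ∈ C, g * u = u * g := fun g hg => (Subgroup.mem_centralizer_iff.mp hg.2 u (by simp)).symm
  have hCv : ∀ g ∈ C, g * v = v * g := fun g hg => (Subgroup.mem_centralizer_iff.mp hg.2 v (by simp)).symm
  have hsplit : ∀ r ∈ R, ∃ d, (d = 1 ∨ d = u ∨ d = v ∨ d = u * v) ∧ d * r ∈ C := by
    intro r hr
    have hz_r := hzc r hr
    have hzu := hzc u huR
    have hzv := hzc v hvR
    have cu : r * u = u * r ∨ r * u = z * (u * r) := by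
      rcases (mem_secondCentre.mp huU).2 r hr with h1 | h1
      · exact Or.inl (mul_inv_eq_iff_eq_mul.mp h1).symm
      · right; rw [mul_inv_eq_iff_eq_mul.mp h1, mul_assoc z r u, hzz]
    have cv : r * v = v * r ∨ r * v = z * (v * r) := by
      rcases (mem_secondCentre.mp hvU).2 r hr with h1 | h1
      · exact Or.inl (mul_inv_eq_iff_eq_mul.mp h1).symm
      · right; rw [mul_inv_eq_iff_eq_mul.mp h1, mul_assoc z r v, hzz]
    have euv : u * v = z * (v * u) := by rw [mul_inv_eq_iff_eq_mul.mp huv, mul_assoc]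
    have evu : v * u = z * (u * v) := by rw [euv, hzz]
    rcases cu with cu | cu <;> rcases cv with cv | cv
    · exact ⟨1, Or.inl rfl, hCmem (by rwa [one_mul]) (by rwa [one_mul]) (by rwa [one_mul])⟩
    · refine ⟨u, Or.inr (Or.inl rfl), hCmem (R.mul_mem huR hr) (by rw [mul_assoc, cu]) ?_⟩
      calc u * r * v = u * (z * (v * r)) := by rw [mul_assoc, cv]
        _ = (u * z) * (v * r) := by rw [mul_assoc]
        _ = z * ((u * v) * r) := by rw [hzu]; simp only [mul_assoc]
        _ = v * (u * r) := by rw [euv, mul_assoc z, hzz, mul_assoc]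
    · refine ⟨v, Or.inr (Or.inr (Or.inl rfl)), hCmem (R.mul_mem hvR hr) ?_ (by rw [mul_assoc, cv])⟩
      calc v * r * u = v * (z * (u * r)) := by rw [mul_assoc, cu]
        _ = (v * z) * (u * r) := by rw [mul_assoc]
        _ = z * ((v * u) * r) := by rw [hzv]; simp only [mul_assoc]
        _ = u * (v * r) := by rw [evu, mul_assoc z, hzz, mul_assoc]
    · refine ⟨u * v, Or.inr (Or.inr (Or.inr rfl)), hCmem (R.mul_mem (R.mul_mem huR hvR) hr) ?_ ?_⟩
      · calc u * v * r * u = u * v * (z * (u * r)) := by rw [mul_assoc (u * v), cu]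
          _ = (u * v * z) * (u * r) := by rw [mul_assoc (u * v) z]
          _ = z * (u * (v * u) * r) := by rw [hzc _ (R.mul_mem huR hvR)]; simp only [mul_assoc]
          _ = z * (u * (z * (u * v)) * r) := by rw [evu]
          _ = z * ((u * z) * (u * v) * r) := by simp only [mul_assoc]
          _ = u * (u * v * r) := by rw [hzu]; simp only [mul_assoc]; rw [hzz]
      · calc u * v * r * v = u * v * (z * (v * r)) := by rw [mul_assoc (u * v), cv]
          _ = (u * v * z) * (v * r) := by rw [mul_assoc (u * v) z]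
          _ = z * ((u * v) * (v * r)) := by rw [hzc _ (R.mul_mem huR hvR), mul_assoc]
          _ = z * (z * (v * u) * (v * r)) := by rw [euv]
          _ = v * (u * v * r) := by simp only [mul_assoc]; rw [hzz]
  have hw : b * v * b⁻¹ = (u * v)⁻¹ := by
    refine (inv_eq_of_mul_eq_one_right ?_).symm
    calc u * v * (b * v * b⁻¹) = x⁻¹ * (b * (b * (b * x * b⁻¹) * b⁻¹) * b⁻¹) := by rw [hv, hu]; group
      _ = 1 := by rw [conj_conj_conj hb3, inv_mul_cancel]
  have hCb : b ∈ Subgroup.normalizer (C : Set S) := b_mem_normalizer hb3 fun g hg => by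
    have h1 : b * g * b⁻¹ * v = v * (b * g * b⁻¹) := by
      calc b * g * b⁻¹ * v = b * (g * u) * b⁻¹ := by rw [hv]; group
        _ = b * (u * g) * b⁻¹ := by rw [hCu g hg]
        _ = v * (b * g * b⁻¹) := by rw [hv]; group
    have h2 : Commute (b * g * b⁻¹) (u * v)⁻¹ := by
      show b * g * b⁻¹ * (u * v)⁻¹ = (u * v)⁻¹ * (b * g * b⁻¹)
      calc b * g * b⁻¹ * (u * v)⁻¹ = b * (g * v) * b⁻¹ := by rw [← hw]; group
        _ = b * (v * g) * b⁻¹ := by rw [hCv g hg]
        _ = (u * v)⁻¹ * (b * g * b⁻¹) := by rw [← hw]; group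
    refine hCmem (h.b_inv hg.1) ?_ h1
    have h3 := (Commute.inv_right_iff.mp h2).mul_right (show Commute (b * g * b⁻¹) v from h1).inv_right
    rw [mul_inv_cancel_right] at h3
    exact h3.eq
  have huC : u ∉ C := fun hc => hcomm (hCv u hc)
  have hzC : ∀ w ∈ C, (∀ g ∈ C, g * w = w * g) → ∀ r ∈ R, r * w = w * r := by
    intro w hw' hc r hr
    obtain ⟨d, hd, hdC⟩ := hsplit r hr
    have hdw : Commute w d := by
      rcases hd with hd | hd | hd | hd <;> rw [hd]
      · exact Commute.one_right w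
      · exact hCu w hw'
      · exact hCv w hw'
      · exact Commute.mul_right (hCu w hw') (hCv w hw')
    have h1 : Commute w (d * r) := (hc _ hdC).symm
    have h2 := hdw.inv_right.mul_right h1
    rw [inv_mul_cancel_left] at h2
    exact h2.eq.symm
  by_cases hCab : ∀ g ∈ C, ∀ g' ∈ C, g * g' = g' * g
  · -- then `R` would be a quaternion group, which has no four group
    exfalso
    have hcent : ∀ g ∈ C, ∀ r ∈ R, r * g = g * r := fun g hg => hzC g hg fun g' hg' => hCab g' hg' g hg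
    have hfixC : ∀ g ∈ C, b * g * b⁻¹ = g := fun g hg => h.centre_fixed hna hg.1 (hcent g hg)
    have e1 : u * v = z * (v * u) := by rw [mul_inv_eq_iff_eq_mul.mp huv, mul_assoc]
    have e2 : v * u = z * (u * v) := by rw [e1, hzz]
    -- squares
    have hsqC : u * u ∈ C := by
      refine hCmem (R.mul_mem huR huR) (by group) ?_
      calc u * u * v = u * (z * (v * u)) := by rw [mul_assoc, e1]
        _ = (u * z) * (v * u) := by group
        _ = z * ((u * v) * u) := by rw [hzc u huR]; group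
        _ = v * (u * u) := by rw [e1, mul_assoc z, hzz, mul_assoc]
    have hvv : v * v = u * u := by
      rw [hv, show b * u * b⁻¹ * (b * u * b⁻¹) = b * (u * u) * b⁻¹ by group, hfixC _ hsqC]
    set c0 := u * u with hc0
    have huvsq : (u * v) * (u * v) = z * (c0 * c0) := by
      calc u * v * (u * v) = u * (v * u) * v := by group
        _ = u * (z * (u * v)) * v := by rw [e2]
        _ = (u * z) * u * (v * v) := by group
        _ = z * (c0 * c0) := by rw [hzc u huR, hvv, hc0]; group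
    have hc0z : c0 = z := by
      have h1 : (b * v * b⁻¹) * (b * v * b⁻¹) = c0 := by
        rw [show b * v * b⁻¹ * (b * v * b⁻¹) = b * (v * v) * b⁻¹ by group, hvv, hfixC _ hsqC]
      rw [hw, ← mul_inv_rev, huvsq] at h1
      have h3 : c0 * c0 * c0 = z := by
        have h4 : z * (c0 * c0) * c0 = 1 := by conv_lhs => arg 2; rw [← h1]
                                               rw [mul_inv_cancel]
        calc c0 * c0 * c0 = z * (z * (c0 * c0) * c0) := by rw [mul_assoc z, hzz]
          _ = z := by rw [h4, mul_one]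
      haveI : Fact (Nat.Prime 2) := ⟨Nat.prime_two⟩
      obtain ⟨j, hj⟩ := h.isTwo ⟨c0, hsqC.1⟩
      replace hj : c0 ^ 2 ^ j = 1 := by simpa using congrArg Subtype.val hj
      have h6 : c0 ^ 6 = 1 := by
        rw [show c0 ^ 6 = (c0 * c0 * c0) * (c0 * c0 * c0) by simp [pow_succ, mul_assoc], h3, hz2]
      have h2 : c0 * c0 = 1 := by
        have hd := Nat.dvd_gcd (orderOf_dvd_of_pow_eq_one hj) (orderOf_dvd_of_pow_eq_one h6)
        have : Nat.gcd (2 ^ j) 6 ∣ 2 := by
          rw [show (6 : ℕ) = 2 * 3 by rfl, Nat.Coprime.gcd_mul_right_cancel_right 2 (Nat.Coprime.pow_right j (by norm_num))]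
          exact Nat.gcd_dvd_right _ _
        rw [← pow_two]
        exact orderOf_dvd_iff_pow_eq_one.mp (hd.trans this)
      rw [← h3, h2, one_mul]
    have hvvz : v * v = z := hvv.trans hc0z
    -- every element of `R` lies in the quaternion group
    let T : S → Prop := fun g => ∃ i d, (i = 1 ∨ i = z) ∧ (d = 1 ∨ d = u ∨ d = v ∨ d = u * v) ∧ g = i * d
    have hQ8 : ∀ g ∈ Subgroup.closure ({u, v} : Set S), T g := by
      have huz : u * z = z * u := hzc u huR
      have hvz : v * z = z * v := hzc v hvR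
      have huz' : ∀ g, u * (z * g) = z * (u * g) := fun g => by rw [← mul_assoc, huz, mul_assoc]
      have hvz' : ∀ g, v * (z * g) = z * (v * g) := fun g => by rw [← mul_assoc, hvz, mul_assoc]
      have huu' : ∀ g, u * (u * g) = z * g := fun g => by rw [← mul_assoc, ← hc0, hc0z]
      have hvv' : ∀ g, v * (v * g) = z * g := fun g => by rw [← mul_assoc, hvvz]
      have hvu' : ∀ g, v * (u * g) = z * (u * (v * g)) := fun g => by rw [← mul_assoc, e2, mul_assoc, mul_assoc]
      have hmulT : ∀ g g', T g → T g' → T (g * g') := by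
        rintro g g' ⟨i, d, hi, hd, hg⟩ ⟨i', d', hi', hd', hg'⟩
        have hid : d * i' = i' * d := by
          have hdR : d ∈ R := by
            rcases hd with hd | hd | hd | hd <;> rw [hd]
            exacts [R.one_mem, huR, hvR, R.mul_mem huR hvR]
          rcases hi' with hi' | hi' <;> rw [hi']
          · simp
          · exact hzc d hdR
        have hgg : g * g' = (i * i') * (d * d') := by
          rw [hg, hg', mul_assoc, ← mul_assoc d, hid, mul_assoc, ← mul_assoc i]
        have hii : i * i' = 1 ∨ i * i' = z := by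
          rcases hi with hi | hi <;> rcases hi' with hi' | hi' <;> rw [hi, hi'] <;> simp [hz2]
        have hdd : ∃ j e, (j = 1 ∨ j = z) ∧ (e = 1 ∨ e = u ∨ e = v ∨ e = u * v) ∧ d * d' = j * e := by
          rcases hd with hd | hd | hd | hd <;> rcases hd' with hd' | hd' | hd' | hd' <;> rw [hd, hd']
          · exact ⟨1, 1, by simp, by simp, by simp⟩
          · exact ⟨1, u, by simp, by simp, by simp⟩
          · exact ⟨1, v, by simp, by simp, by simp⟩
          · exact ⟨1, u * v, by simp, by simp, by simp⟩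
          · exact ⟨1, u, by simp, by simp, by simp⟩
          · exact ⟨z, 1, by simp, by simp, by rw [← hc0, hc0z, mul_one]⟩
          · exact ⟨1, u * v, by simp, by simp, by simp⟩
          · exact ⟨z, v, by simp, by simp, by rw [huu']⟩
          · exact ⟨1, v, by simp, by simp, by simp⟩
          · exact ⟨z, u * v, by simp, by simp, e2⟩
          · exact ⟨z, 1, by simp, by simp, by rw [hvvz, mul_one]⟩
          · exact ⟨1, u, by simp, by simp, by rw [hvu', hvvz, huz, hzz, one_mul]⟩
          · exact ⟨1, u * v, by simp, by simp, by simp⟩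
          · exact ⟨1, v, by simp, by simp, by rw [mul_assoc, e2, huz', huu', hzz, one_mul]⟩
          · exact ⟨z, u, by simp, by simp, by rw [mul_assoc, hvvz, huz]⟩
          · exact ⟨z, 1, by simp, by simp, by rw [huvsq, hc0z, hz2, mul_one]⟩
        obtain ⟨j, e, hj, he, hdd⟩ := hdd
        refine ⟨i * i' * j, e, ?_, he, by rw [hgg, hdd, ← mul_assoc]⟩
        rcases hii with hii | hii <;> rcases hj with hj | hj <;> rw [hii, hj] <;> simp [hz2]
      intro g hg
      rw [← Subgroup.mem_toSubmonoid, Subgroup.closure_toSubmonoid_of_finite] at hg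
      induction hg using Submonoid.closure_induction with
      | mem g hg =>
        rcases hg with hg | hg <;> rw [show g = _ from hg]
        · exact ⟨1, u, by simp, by simp, by simp⟩
        · exact ⟨1, v, by simp, by simp, by simp⟩
      | one => exact ⟨1, 1, by simp, by simp, by simp⟩
      | mul g g' _ _ ih ih' => exact hmulT g g' ih ih'
    have hRle : R ≤ Subgroup.closure ({u, v} : Set S) := by
      rw [h.gen]
      refine (Subgroup.closure_le _).mpr ?_
      rintro _ ⟨r, hr, rfl⟩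
      obtain ⟨d, hd, hdC⟩ := hsplit r hr
      set c := d * r with hc'
      have hdD : d ∈ Subgroup.closure ({u, v} : Set S) ∧ b * d * b⁻¹ ∈ Subgroup.closure ({u, v} : Set S) := by
        have hu' : u ∈ Subgroup.closure ({u, v} : Set S) := Subgroup.subset_closure (by simp)
        have hv' : v ∈ Subgroup.closure ({u, v} : Set S) := Subgroup.subset_closure (by simp)
        rcases hd with hd | hd | hd | hd <;> rw [hd]
        · simp
        · exact ⟨hu', hv ▸ hv'⟩
        · exact ⟨hv', by rw [hw]; exact inv_mem (mul_mem hu' hv')⟩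
        · refine ⟨mul_mem hu' hv', ?_⟩
          rw [show b * (u * v) * b⁻¹ = (b * u * b⁻¹) * (b * v * b⁻¹) by group, hw, ← hv]
          exact mul_mem hv' (inv_mem (mul_mem hu' hv'))
      have e : r⁻¹ * (b * r * b⁻¹) = d * (b * d * b⁻¹)⁻¹ := by
        have hbc : b * c * b⁻¹ = c := hfixC c hdC
        have hR' : d * (b * d * b⁻¹)⁻¹ ∈ R := by
          have hdR : d ∈ R := by
            rcases hd with hd | hd | hd | hd <;> rw [hd]
            exacts [R.one_mem, huR, hvR, R.mul_mem huR hvR]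
          exact R.mul_mem hdR (R.inv_mem (h.b_inv hdR))
        calc r⁻¹ * (b * r * b⁻¹) = c⁻¹ * (d * (b * d * b⁻¹)⁻¹) * (b * c * b⁻¹) := by rw [hc']; group
          _ = c⁻¹ * ((d * (b * d * b⁻¹)⁻¹) * c) := by rw [hbc]; group
          _ = c⁻¹ * (c * (d * (b * d * b⁻¹)⁻¹)) := by rw [hcent c hdC _ hR']
          _ = d * (b * d * b⁻¹)⁻¹ := by group
      rw [SetLike.mem_coe, e]
      exact mul_mem hdD.1 (inv_mem hdD.2)
    obtain ⟨i, d, hi, hd, hqd⟩ := hQ8 q (hRle h.mem)
    have hiR : ∀ r ∈ R, r * i = i * r := fun r hr => by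
      rcases hi with hi | hi <;> rw [hi]
      · simp
      · exact hzc r hr
    have hbi : b * i * b⁻¹ = i := by rcases hi with hi | hi <;> rw [hi] <;> simp [hbz]
    rcases eq_or_ne d 1 with hd1 | hd1
    · apply h.four.ne
      rw [hqd, hd1, mul_one, hbi]
    have hd2 : d * d = z := by
      rcases hd with hd | hd | hd | hd
      · exact absurd hd hd1
      · rw [hd, ← hc0, hc0z]
      · rw [hd, hvvz]
      · rw [hd, huvsq, hc0z, hz2, mul_one]
    have hdR : d ∈ R := by
      rcases hd with hd | hd | hd | hd <;> rw [hd]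
      exacts [R.one_mem, huR, hvR, R.mul_mem huR hvR]
    have hii : i * i = 1 := by rcases hi with hi | hi <;> rw [hi] <;> simp [hz2]
    apply hz1
    calc z = d * d := hd2.symm
      _ = (i * i) * (d * d) := by rw [hii, one_mul]
      _ = i * (i * d) * d := by group
      _ = i * (d * i) * d := by rw [hiR d hdR]
      _ = q * q := by rw [hqd]; group
      _ = 1 := h.four.sq
  · obtain ⟨x₂, hx₂C, hx₂nc, hx₂d⟩ := exists_near_central (h.isTwo.to_le inf_le_left : IsPGroup 2 C) hCab
    have hx₂U : x₂ ∈ U := mem_secondCentre.mpr ⟨hx₂C.1, fun r hr => by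
      obtain ⟨d, hd, hdC⟩ := hsplit r hr
      have hxd' : x₂ * d * x₂⁻¹ = d := by
        have : Commute x₂ d := by
          rcases hd with hd | hd | hd | hd <;> rw [hd]
          · exact Commute.one_right _
          · exact hCu x₂ hx₂C
          · exact hCv x₂ hx₂C
          · exact Commute.mul_right (hCu x₂ hx₂C) (hCv x₂ hx₂C)
        rw [this.eq, mul_inv_cancel_right]
      set c := d * r with hc'
      have e : x₂ * r * x₂⁻¹ = d⁻¹ * (x₂ * c * x₂⁻¹) := by
        rw [hc', show x₂ * (d * r) * x₂⁻¹ = (x₂ * d * x₂⁻¹) * (x₂ * r * x₂⁻¹) by group, hxd', inv_mul_cancel_left]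
      obtain ⟨h1, h2⟩ := hx₂d c hdC
      have hwC : x₂ * c * x₂⁻¹ * c⁻¹ ∈ C := C.mul_mem (C.mul_mem (C.mul_mem hx₂C hdC) (C.inv_mem hx₂C)) (C.inv_mem hdC)
      rw [e]
      rcases huniq _ hwC.1 (hzC _ hwC h1) h2 with h3 | h3
      · left; rw [mul_inv_eq_one.mp h3, hc']; group
      · right
        rw [mul_inv_eq_iff_eq_mul.mp h3, hc']
        have hdR : d ∈ R := by
          rcases hd with hd | hd | hd | hd <;> rw [hd]
          exacts [R.one_mem, huR, hvR, R.mul_mem huR hvR]
        rw [← mul_assoc, hzc _ (R.inv_mem hdR)]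
        group⟩
    obtain ⟨c, hc, hne⟩ := hx₂nc
    have hu2 := hmoved x₂ hx₂U ⟨c, hc.1, hne⟩
    set u₂ := x₂⁻¹ * (b * x₂ * b⁻¹) with hu₂
    set v₂ := b * u₂ * b⁻¹ with hv₂
    by_cases hcomm₂ : Commute u₂ v₂
    · exact hpair x₂ hx₂U hu2 hcomm₂
    have hu₂C : u₂ ∈ C := C.mul_mem (C.inv_mem hx₂C) ((normal_conj_inv hCb).1 x₂ hx₂C)
    have hv₂C : v₂ ∈ C := (normal_conj_inv hCb).1 u₂ hu₂C
    have hu₂U : u₂ ∈ U := U.mul_mem (U.inv_mem hx₂U) ((normal_conj_inv hUb).1 x₂ hx₂U)
    have huv₂ : u₂ * v₂ * u₂⁻¹ = z * v₂ := by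
      rcases (mem_secondCentre.mp hu₂U).2 v₂ hv₂C.1 with h1 | h1
      · exact absurd (mul_inv_eq_iff_eq_mul.mp h1) hcomm₂
      · exact h1
    have hw' : (x * x₂)⁻¹ * (b * (x * x₂) * b⁻¹) = u * u₂ := by
      calc (x * x₂)⁻¹ * (b * (x * x₂) * b⁻¹) = x₂⁻¹ * u * (b * x₂ * b⁻¹) := by rw [hu]; group
        _ = (u * x₂⁻¹) * (b * x₂ * b⁻¹) := by rw [← (show Commute x₂ u from hCu x₂ hx₂C).inv_left.eq]
        _ = u * u₂ := by rw [hu₂]; group
    refine hpair (x * x₂) (U.mul_mem hxU hx₂U) ?_ ?_ <;> rw [hw']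
    · intro he
      apply huC
      rw [mul_eq_one_iff_eq_inv.mp he]
      exact C.inv_mem hu₂C
    · rw [show b * (u * u₂) * b⁻¹ = v * v₂ by rw [hv, hv₂]; group]
      show u * u₂ * (v * v₂) = v * v₂ * (u * u₂)
      have a1 : u * v = z * (v * u) := by rw [mul_inv_eq_iff_eq_mul.mp huv, mul_assoc]
      have a2 : u₂ * v₂ = z * (v₂ * u₂) := by rw [mul_inv_eq_iff_eq_mul.mp huv₂, mul_assoc]
      calc u * u₂ * (v * v₂) = u * (u₂ * v) * v₂ := by group
        _ = (u * v) * (u₂ * v₂) := by rw [hCv u₂ hu₂C]; group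
        _ = z * ((v * u) * z) * (v₂ * u₂) := by rw [a1, a2]; group
        _ = z * (z * (v * u)) * (v₂ * u₂) := by rw [hzc _ (R.mul_mem hvR huR)]
        _ = v * (u * v₂) * u₂ := by rw [hzz]; group
        _ = v * (v₂ * u) * u₂ := by rw [hCu v₂ hv₂C]
        _ = v * v₂ * (u * u₂) := by group

end Setting

end Cfsg.Lib.CubicBlock
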