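import Cfsg.Agent.CubicBlock.Centre
import Cfsg.Agent.PGroups.SpecialCoprime

/-!
# In the non-abelian case the two-group is extraspecial of order 32
-/

set_option autoImplicit false
set_option linter.unusedSectionVars false
set_option linter.style.haveILetI false

namespace Cfsg.Lib.CubicBlock

open Module
open scoped commutatorElement

variable {S : Type*} [Group S] [Finite S] {E : Type*} [AddCommGroup E] [Module (ZMod 3) E] [Finite E]
  {ρ : Representation (ZMod 3) S E} {b q p : S} {R : Subgroup S}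

theorem IsFour.fixed_eq_one (hq : IsFour b p) {g : S} (hg : g ∈ fourSub b p) (hfix : b * g * b⁻¹ = g) : g = 1 := by
  rcases hq.mem_iff.mp hg with hg' | hg' | hg' | hg'
  · exact hg'
  · rw [hg'] at hfix; exact absurd hfix hq.ne
  · rw [hg'] at hfix
    exact absurd (mul_left_cancel (mul_right_cancel hfix)) hq.ne
  · rw [hg'] at hfix
    have e : b * (p * (b * p * b⁻¹)) * b⁻¹ = p := by
      rw [show b * (p * (b * p * b⁻¹)) * b⁻¹ = (b * p * b⁻¹) * (b * (b * p * b⁻¹) * b⁻¹) by group, hq.prod, hq.comm,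
        ← mul_assoc, hq.sq', one_mul]
    rw [e, left_eq_mul] at hfix
    refine absurd ?_ hq.ne
    have hp1 : p = 1 := by
      calc p = b⁻¹ * (b * p * b⁻¹) * b := by group
        _ = 1 := by rw [hfix]; group
    rw [hp1]; group

/-- The three lines each have dimension one and the last two span a plane meeting the first trivially. -/
theorem IsFour.lines (hb : IsBlock ρ b) (hq : IsFour b p) :
    finrank (ZMod 3) ↥(line ρ b p (b * p * b⁻¹) ⊔ line ρ b p (p * (b * p * b⁻¹))) = 2 := by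
  classical
  obtain ⟨-, -, hW, hL⟩ := hq.space hb
  obtain ⟨g1, g2, g3⟩ := hq.generates
  set r := b * p * b⁻¹ with hr
  have m1 : p ∈ fourSub b p := hq.mem_iff.mpr (by simp)
  have m2 : r ∈ fourSub b p := hq.mem_iff.mpr (by simp [hr])
  set L1 := line ρ b p p
  set L2 := line ρ b p r
  set L3 := line ρ b p (p * r)
  have hm3 : b * (p * r) * b⁻¹ = p := by
    rw [show b * (p * r) * b⁻¹ = (b * p * b⁻¹) * (b * r * b⁻¹) by group, hr, hq.prod, hq.comm, ← mul_assoc,
      hq.sq', one_mul]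
  have hinj : ∀ (L L' : Submodule (ZMod 3) E), (∀ v ∈ L, ρ b v ∈ L') → finrank (ZMod 3) L ≤ finrank (ZMod 3) L' := by
    intro L L' hm
    refine LinearMap.finrank_le_finrank_of_injective (f := (ρ b).restrict hm) ?_
    intro x y hxy
    have := congrArg (ρ b⁻¹) (congrArg Subtype.val hxy)
    simp only [LinearMap.restrict_coe_apply, rho_inv_cancel] at this
    exact Subtype.ext this
  have h23 := hinj L2 L3 fun v hv => by
    have := hq.map_line hb.cube hv
    rwa [hq.prod] at this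
  have h31 := hinj L3 L1 fun v hv => by
    have := hq.map_line hb.cube hv
    rwa [hm3] at this
  have hWle : moved ρ (fourSub b p) ≤ L1 ⊔ (L2 ⊔ L3) := fun v hv => by
    obtain ⟨a1, a2, a3, e⟩ := hq.decompose hv
    have e' : v = -((v + ρ p v) + (v + ρ r v) + (v + ρ (p * r) v)) := by
      rw [hr, ← e]
      linear_combination (norm := module) three_smul v
    rw [e', add_assoc]
    exact neg_mem (add_mem (Submodule.mem_sup_left a1)
      (Submodule.mem_sup_right (add_mem (Submodule.mem_sup_left a2) (Submodule.mem_sup_right a3))))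
  have h1 := Submodule.finrank_mono hWle
  have h2 := Submodule.finrank_add_le_finrank_add_finrank L1 (L2 ⊔ L3)
  have h3 := Submodule.finrank_add_le_finrank_add_finrank L2 L3
  have h4 : finrank (ZMod 3) L1 = 1 := hL
  rw [hW] at h1
  show finrank (ZMod 3) ↥(L2 ⊔ L3) = 2
  omega

variable (ρ) in
/-- The determinant on the moved space. -/
noncomputable def detHom (R : Subgroup S) : Subgroup.normalizer (R : Set S) →* ZMod 3 :=
  LinearMap.det.comp
    { toFun := fun g => (ρ (g : S)).restrict (fun _ hv => map_moved (ρ := ρ) (normal_conj_inv g.2).1 hv)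
      map_one' := by ext v; simp [LinearMap.restrict_coe_apply]
      map_mul' := fun g h => by ext v; simp [LinearMap.restrict_coe_apply, rho_mul] }

set_option synthInstance.maxSize 2000 in
theorem sign_cases : ∀ a c d e : ZMod 3, a * c * d * e ≠ 1 ∨
    (a = 1 ∧ c = 1 ∧ d = 1 ∧ e = 1) ∨ (a = 1 ∧ c = 1 ∧ d = -1 ∧ e = -1) ∨
    (a = 1 ∧ c = -1 ∧ d = 1 ∧ e = -1) ∨ (a = 1 ∧ c = -1 ∧ d = -1 ∧ e = 1) ∨
    (a = -1 ∧ c = -1 ∧ d = -1 ∧ e = -1) ∨ (a = -1 ∧ c = -1 ∧ d = 1 ∧ e = 1) ∨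
    (a = -1 ∧ c = 1 ∧ d = -1 ∧ e = 1) ∨ (a = -1 ∧ c = 1 ∧ d = 1 ∧ e = -1) := by decide

/-- Conclusion in the non-abelian case. -/
theorem Setting.extraspecial (h : Setting ρ b q R) (hna : ¬ ∀ g ∈ R, ∀ g' ∈ R, g * g' = g' * g) :
    Cfsg.IsExtraspecial 2 R ∧ Nat.card R = 32 ∧
      ∃ A : Subgroup S, A ≤ R ∧ Cfsg.IsElementaryAbelian 2 A ∧ Nat.card A = 8 := by
  classical
  haveI : Fact (Nat.Prime 2) := ⟨Nat.prime_two⟩
  obtain ⟨z, hzR, hzc, hz2, hz1, hbz, huniq⟩ := h.exists_involution hna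
  obtain ⟨p, hp, hpR, hpN⟩ := h.exists_four_second hna hzR hzc hz2 hz1 hbz huniq
  have hb3 := h.block.cube
  set p' := b * p * b⁻¹ with hp'
  set V := fourSub b p with hV
  have hVR : V ≤ R := h.four_le hp hpR
  have hpV : p ∈ V := hp.mem_iff.mpr (by simp)
  have hp'V : p' ∈ V := hp.mem_iff.mpr (by simp [hp'])
  have hp'R : p' ∈ R := hVR hp'V
  have hzz : ∀ g : S, z * (z * g) = g := fun g => by rw [← mul_assoc, hz2, one_mul]
  have hp'N : NearCentral z p' R := fun r hr => by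
    set r' := b⁻¹ * r * b with hr'
    have hr'R : r' ∈ R := (normal_conj_inv h.normal).2 r hr
    rw [show p' * r * p'⁻¹ = b * (p * r' * p⁻¹) * b⁻¹ by rw [hp', hr']; group]
    rcases hpN r' hr'R with h1 | h1 <;> rw [h1]
    · left; rw [hr']; group
    · right; rw [show b * (z * r') * b⁻¹ = (b * z * b⁻¹) * (b * r' * b⁻¹) by group, hbz, hr']; group
  have hzV : z ∉ V := fun hz => hz1 (hp.fixed_eq_one hz hbz)
  -- how elements act on the four group
  have hact : ∀ t ∈ R, NearCentral z t R → ∀ r ∈ R, r * t * r⁻¹ = t ∨ r * t * r⁻¹ = z * t := fun t ht htN r hr => by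
    rcases htN r hr with h1 | h1
    · left; rw [show r * t = t * r from (mul_inv_eq_iff_eq_mul.mp h1).symm, mul_inv_cancel_right]
    · right
      have e : t * r = z * (r * t) := by rw [mul_inv_eq_iff_eq_mul.mp h1, mul_assoc]
      rw [show r * t = z * (t * r) by rw [e, hzz], mul_assoc, mul_inv_cancel_right]
  obtain ⟨r₁, hr₁, hr₁p⟩ : ∃ r ∈ R, r * p * r⁻¹ = z * p := by
    by_contra hall
    push Not at hall
    have hc : ∀ r ∈ R, r * p = p * r := fun r hr =>
      mul_inv_eq_iff_eq_mul.mp ((hact p hpR hpN r hr).resolve_right (hall r hr))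
    exact hp.ne (h.centre_fixed hna hpR hc)
  have hpz : p * z = z * p := hzc p hpR
  -- dimensions
  obtain ⟨-, -, hW, hL⟩ := hp.space h.block
  set F := moved ρ R with hF
  set W := moved ρ V with hWdef
  have hWF : W ≤ F := h.moved_four_le hp hpR
  set L0 := fixed ρ V ⊓ F with hL0
  obtain ⟨g1, g2, g3⟩ := hp.generates
  have hneg : ∀ v ∈ F, ρ z v = -v := fun v hv => h.neg_of_central hzR hzc hz2 hz1 hbz hv
  have hsplitF : ∀ v ∈ F, ∃ a ∈ L0, ∃ w ∈ W, v = a + w := fun v hv => by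
    obtain ⟨a, ha, w, hw, e⟩ := Submodule.mem_sup.mp
      (show v ∈ fixed ρ V ⊔ W by rw [(isCompl_fixed_moved hp.card_not_dvd).sup_eq_top]; trivial)
    refine ⟨a, ⟨ha, ?_⟩, w, hw, e.symm⟩
    have := F.sub_mem hv (hWF hw)
    rwa [← e, add_sub_cancel_right] at this
  have hdisj : ∀ a ∈ fixed ρ V, a ∈ W → a = 0 := fun a ha haW =>
    (Submodule.mem_bot (ZMod 3)).mp ((isCompl_fixed_moved hp.card_not_dvd).disjoint.le_bot ⟨ha, haW⟩)
  set P1 := fixed ρ (Subgroup.zpowers p) ⊓ F with hP1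
  set P2 := fixed ρ (Subgroup.zpowers (z * p)) ⊓ F with hP2
  have hzp : ∀ v ∈ F, ρ (z * p) v = -ρ p v := fun v hv => by rw [rho_mul, hneg _ (h.map_moved_R hpR hv)]
  have hP1eq : P1 = line ρ b p p ⊔ L0 := by
    refine le_antisymm (fun v hv => ?_) (sup_le (fun v hv => ⟨hv.1, hWF hv.2⟩) fun v hv =>
      ⟨mem_fixed_zpowers.mpr (mem_fixed.mp hv.1 p hpV), hv.2⟩)
    obtain ⟨a, ha, w, hw, rfl⟩ := hsplitF v hv.2
    have h1 := mem_fixed_zpowers.mp hv.1
    rw [map_add, mem_fixed.mp ha.1 p hpV, add_right_inj] at h1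
    exact Submodule.add_mem _ (Submodule.mem_sup_right ha) (Submodule.mem_sup_left ⟨mem_fixed_zpowers.mpr h1, hw⟩)
  have hP2eq : P2 = line ρ b p p' ⊔ line ρ b p (p * p') := by
    refine le_antisymm (fun v hv => ?_) (sup_le (fun v hv => ⟨mem_fixed_zpowers.mpr ?_, hWF hv.2⟩)
      fun v hv => ⟨mem_fixed_zpowers.mpr ?_, hWF hv.2⟩)
    · obtain ⟨a, ha, w, hw, rfl⟩ := hsplitF v hv.2
      have h1 := mem_fixed_zpowers.mp hv.1
      rw [hzp _ hv.2, map_add, mem_fixed.mp ha.1 p hpV] at h1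
      have hpw : ρ p w ∈ W := by simpa using W.add_mem (sub_mem_moved hpV w) hw
      have e2 : a + a = -(w + ρ p w) := by linear_combination (norm := module) -h1
      have ha0 : a = 0 := by
        have h0 := hdisj _ ((fixed ρ V).add_mem ha.1 ha.1) (by rw [e2]; exact W.neg_mem (W.add_mem hw hpw))
        have h3 := three_smul a
        linear_combination (norm := module) h3 - h0
      rw [ha0, zero_add]
      rw [ha0, add_zero] at e2
      obtain ⟨c1, c2, c3, ec⟩ := hp.decompose hw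
      have c1z : w + ρ p w = 0 := by
        rw [← neg_eq_zero, ← e2]
      have e' : w = -((w + ρ p' w) + (w + ρ (p * p') w)) := by
        rw [hp']
        rw [c1z, zero_add] at ec
        rw [← ec]
        linear_combination (norm := module) three_smul w
      rw [e']
      exact Submodule.neg_mem _ (Submodule.add_mem _ (Submodule.mem_sup_left c2) (Submodule.mem_sup_right c3))
    · rw [hzp v (hWF hv.2), hp.neg_on_line hp'V hpV g3 hv, neg_neg]
    · rw [hzp v (hWF hv.2), hp.neg_on_line (hp.mem_iff.mpr (by simp [hp'])) hpV (by rw [Set.pair_comm]; exact g1) hv,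
        neg_neg]
  have hswap : finrank (ZMod 3) P1 = finrank (ZMod 3) P2 := by
    have hm : ∀ (g s t : S), g ∈ R → g * s * g⁻¹ = t →
        ∀ v ∈ fixed ρ (Subgroup.zpowers s) ⊓ F, ρ g v ∈ fixed ρ (Subgroup.zpowers t) ⊓ F := fun g s t hg e v hv =>
      ⟨mem_fixed_zpowers.mpr (by
        rw [← rho_mul, show t * g = g * s by rw [← e, inv_mul_cancel_right], rho_mul, mem_fixed_zpowers.mp hv.1]),
        h.map_moved_R hg hv.2⟩
    have hinj : ∀ (g : S) (s t : S) (hg : g ∈ R) (e : g * s * g⁻¹ = t),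
        finrank (ZMod 3) ↥(fixed ρ (Subgroup.zpowers s) ⊓ F) ≤ finrank (ZMod 3) ↥(fixed ρ (Subgroup.zpowers t) ⊓ F) :=
      fun g s t hg e => LinearMap.finrank_le_finrank_of_injective (f := (ρ g).restrict (hm g s t hg e)) (by
        intro x y hxy
        have := congrArg (ρ g⁻¹) (congrArg Subtype.val hxy)
        simp only [LinearMap.restrict_coe_apply, rho_inv_cancel] at this
        exact Subtype.ext this)
    refine le_antisymm (hinj r₁ p (z * p) hr₁ hr₁p) (hinj r₁⁻¹ (z * p) p (R.inv_mem hr₁) ?_)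
    rw [← hr₁p]; group
  have hL0dim : finrank (ZMod 3) L0 = 1 := by
    have h1 := Submodule.finrank_sup_add_finrank_inf_eq (line ρ b p p) L0
    have h0 : line ρ b p p ⊓ L0 = ⊥ := eq_bot_iff.mpr fun v hv => (Submodule.mem_bot _).mpr (hdisj v hv.2.1 hv.1.2)
    rw [h0, finrank_bot, ← hP1eq, hswap, hP2eq, hp.lines h.block, hL] at h1
    omega
  have hFdim : finrank (ZMod 3) F = 4 := by
    have h1 := Submodule.finrank_sup_add_finrank_inf_eq L0 W
    have h0 : L0 ⊓ W = ⊥ := eq_bot_iff.mpr fun v hv => (Submodule.mem_bot _).mpr (hdisj v hv.1.1 hv.2)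
    have h2 : L0 ⊔ W = F := le_antisymm (sup_le inf_le_right hWF) fun v hv => by
      obtain ⟨a, ha, w, hw, rfl⟩ := hsplitF v hv
      exact Submodule.add_mem _ (Submodule.mem_sup_left ha) (Submodule.mem_sup_right hw)
    rw [h0, h2, finrank_bot, hL0dim, hW] at h1
    omega
  -- a basis of eigenvectors
  obtain ⟨⟨v₀, hv₀⟩, hne₀, hgen₀⟩ := finrank_eq_one_iff'.mp hL0dim
  obtain ⟨⟨v₁, hv₁⟩, hne₁, hgen₁⟩ := finrank_eq_one_iff'.mp hL
  set v₂ := ρ b v₁ with hv₂def
  set v₃ := ρ b v₂ with hv₃def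
  have hv₂ : v₂ ∈ line ρ b p p' := hp.map_line hb3 hv₁
  have hv₃ : v₃ ∈ line ρ b p (p * p') := by
    have := hp.map_line hb3 hv₂
    rwa [hp', hp.prod] at this
  have hcube : ∀ x, ρ b (ρ b (ρ b x)) = x := fun x => by
    rw [← rho_mul, ← rho_mul, show b * b * b = b ^ 3 by rw [pow_succ, pow_two], hb3, map_one]; rfl
  have hmap3 : b * (p * p') * b⁻¹ = p := by
    rw [show b * (p * p') * b⁻¹ = (b * p * b⁻¹) * (b * p' * b⁻¹) by group, hp', hp.prod, hp.comm, ← mul_assoc,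
      hp.sq', one_mul]
  have hline2 : ∀ v ∈ line ρ b p p', ∃ c : ZMod 3, v = c • v₂ := fun v hv => by
    have t1 : ρ b v ∈ line ρ b p (p * p') := by
      have := hp.map_line hb3 hv
      rwa [hp', hp.prod] at this
    have t2 : ρ b (ρ b v) ∈ line ρ b p p := (congrArg (line ρ b p) hmap3) ▸ hp.map_line hb3 t1
    obtain ⟨c, hc⟩ := hgen₁ ⟨_, t2⟩
    refine ⟨c, ?_⟩
    rw [← hcube v, ← show c • v₁ = ρ b (ρ b v) from congrArg Subtype.val hc, map_smul]
  have hline3 : ∀ v ∈ line ρ b p (p * p'), ∃ c : ZMod 3, v = c • v₃ := fun v hv => by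
    have t2 : ρ b v ∈ line ρ b p p := (congrArg (line ρ b p) hmap3) ▸ hp.map_line hb3 hv
    obtain ⟨c, hc⟩ := hgen₁ ⟨_, t2⟩
    refine ⟨c, ?_⟩
    rw [← hcube v, ← show c • v₁ = ρ b v from congrArg Subtype.val hc, map_smul, map_smul]
  have hsum : ∀ v ∈ F, ∃ c₀ c₁ c₂ c₃ : ZMod 3, v = c₀ • v₀ + c₁ • v₁ + c₂ • v₂ + c₃ • v₃ := fun v hv => by
    obtain ⟨a, ha, w, hw, rfl⟩ := hsplitF v hv
    obtain ⟨a1, a2, a3, e⟩ := hp.decompose hw
    obtain ⟨c0, hc0⟩ := hgen₀ ⟨a, ha⟩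
    obtain ⟨c1, hc1⟩ := hgen₁ ⟨_, a1⟩
    obtain ⟨c2, hc2⟩ := hline2 _ a2
    obtain ⟨c3, hc3⟩ := hline3 _ a3
    refine ⟨c0, -c1, -c2, -c3, ?_⟩
    rw [← show c0 • v₀ = a from congrArg Subtype.val hc0, neg_smul, neg_smul, neg_smul, ← hc2, ← hc3,
      show c1 • v₁ = w + ρ p w from congrArg Subtype.val hc1]
    linear_combination (norm := module) three_smul w - e
  let vec : Fin 4 → F := ![⟨v₀, hv₀.2⟩, ⟨v₁, hWF hv₁.2⟩, ⟨v₂, hWF hv₂.2⟩, ⟨v₃, hWF hv₃.2⟩]
  have hspan : ⊤ ≤ Submodule.span (ZMod 3) (Set.range vec) := fun v _ => by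
    obtain ⟨c0, c1, c2, c3, e⟩ := hsum v v.2
    have e' : v = c0 • vec 0 + c1 • vec 1 + c2 • vec 2 + c3 • vec 3 := Subtype.ext (by simpa [vec] using e)
    rw [e']
    exact Submodule.add_mem _ (Submodule.add_mem _ (Submodule.add_mem _
      (Submodule.smul_mem _ _ (Submodule.subset_span ⟨0, rfl⟩)) (Submodule.smul_mem _ _ (Submodule.subset_span ⟨1, rfl⟩)))
      (Submodule.smul_mem _ _ (Submodule.subset_span ⟨2, rfl⟩))) (Submodule.smul_mem _ _ (Submodule.subset_span ⟨3, rfl⟩))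
  let bas : Basis (Fin 4) (ZMod 3) F :=
    basisOfTopLeSpanOfCardEqFinrank vec hspan (by rw [Fintype.card_fin, hFdim])
  have hbas : ∀ i, bas i = vec i := fun i => by simp [bas]
  -- diagonal elements
  set A₀ : Set S := {g | g ∈ V ∨ z * g ∈ V} with hA₀
  have hnorm : ∀ g ∈ R, g ∈ Subgroup.normalizer (R : Set S) := fun g hg => Subgroup.le_normalizer hg
  have hdetR : ∀ g : Subgroup.normalizer (R : Set S), (g : S) ∈ R → detHom ρ R g = 1 := by
    suffices hall : ∀ g ∈ commB b R, ∀ hg : g ∈ Subgroup.normalizer (R : Set S), detHom ρ R ⟨g, hg⟩ = 1 by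
      intro g hg
      exact hall g (h.gen.le hg) g.2
    intro g hg
    induction hg using Subgroup.closure_induction with
    | mem g hg =>
      obtain ⟨x, hx, rfl⟩ := hg
      intro hgN
      let X : Subgroup.normalizer (R : Set S) := ⟨x, hnorm x hx⟩
      let B : Subgroup.normalizer (R : Set S) := ⟨b, h.normal⟩
      rw [show (⟨x⁻¹ * (b * x * b⁻¹), hgN⟩ : Subgroup.normalizer (R : Set S)) = X⁻¹ * (B * X * B⁻¹) from rfl,
        map_mul, map_mul, map_mul, mul_comm (detHom ρ R B) (detHom ρ R X), mul_assoc (detHom ρ R X), ← map_mul,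
        mul_inv_cancel, map_one, mul_one, ← map_mul, inv_mul_cancel, map_one]
    | one => intro hg; exact map_one _
    | mul g g' hg1 hg2 ih ih' =>
      intro hgg
      have h1 : g ∈ R := h.gen.ge hg1
      have h2 : g' ∈ R := h.gen.ge hg2
      rw [show (⟨g * g', hgg⟩ : Subgroup.normalizer (R : Set S)) = ⟨g, hnorm g h1⟩ * ⟨g', hnorm g' h2⟩ from rfl,
        map_mul, ih, ih', one_mul]
    | inv g hg1 ih =>
      intro hgi
      have h1 : g ∈ R := h.gen.ge hg1
      have := map_mul (detHom ρ R) ⟨g, hnorm g h1⟩ ⟨g, hnorm g h1⟩⁻¹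
      rw [mul_inv_cancel, map_one, ih, one_mul] at this
      exact this.symm
  have m3 : p * p' ∈ V := V.mul_mem hpV hp'V
  have hdiag : ∀ g ∈ R, g * p = p * g → g * p' = p' * g → g ∈ V ∨ z * g ∈ V := by
    intro g hg e1 e2
    have hcomm : ∀ t ∈ V, g * t = t * g := fun t ht => by
      rcases hp.mem_iff.mp ht with ht' | ht' | ht' | ht' <;> rw [ht']
      · simp
      · exact e1
      · exact e2
      · exact ((show Commute g p from e1).mul_right (show Commute g p' from e2)).eq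
    have hgfix : ∀ t ∈ V, ∀ v ∈ line ρ b p t, ρ g v ∈ line ρ b p t := fun t ht v hv =>
      ⟨map_fixed (fun s hs => by
        obtain ⟨n, rfl⟩ := Subgroup.mem_zpowers_iff.mp hs
        rw [mul_assoc, ← ((show Commute g t from hcomm t ht).zpow_right n).eq, inv_mul_cancel_left]
        exact hs) hv.1,
        map_moved (fun s hs => by rw [hcomm s hs, mul_inv_cancel_right]; exact hs) hv.2⟩
    obtain ⟨c₁, hc₁⟩ := hgen₁ ⟨_, hgfix p hpV v₁ hv₁⟩
    replace hc₁ : c₁ • v₁ = ρ g v₁ := congrArg Subtype.val hc₁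
    obtain ⟨c₂, hc₂⟩ := hline2 _ (hgfix p' hp'V v₂ hv₂)
    obtain ⟨c₃, hc₃⟩ := hline3 _ (hgfix (p * p') m3 v₃ hv₃)
    obtain ⟨c₀, hc₀⟩ := hgen₀ ⟨ρ g v₀, map_fixed (fun s hs => by rwa [mul_assoc, ← hcomm s hs, inv_mul_cancel_left]) hv₀.1,
      h.map_moved_R hg hv₀.2⟩
    replace hc₀ : c₀ • v₀ = ρ g v₀ := congrArg Subtype.val hc₀
    have hdet : c₀ * c₁ * c₂ * c₃ = 1 := by
      rw [← hdetR ⟨g, hnorm g hg⟩ hg]
      show _ = LinearMap.det _
      rw [← LinearMap.det_toMatrix bas]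
      have hM : LinearMap.toMatrix bas bas ((ρ g).restrict (fun _ hv => map_moved (ρ := ρ) (normal_conj_inv (hnorm g hg)).1 hv))
          = Matrix.diagonal ![c₀, c₁, c₂, c₃] := by
        ext i j
        have hj : (ρ g).restrict (fun _ hv => map_moved (ρ := ρ) (normal_conj_inv (hnorm g hg)).1 hv) (bas j)
            = ![c₀, c₁, c₂, c₃] j • bas j := by
          rw [hbas]
          apply Subtype.ext
          rw [LinearMap.restrict_coe_apply, Submodule.coe_smul]
          fin_cases j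
          · simpa [vec] using hc₀.symm
          · simpa [vec] using hc₁.symm
          · simpa [vec] using hc₂
          · simpa [vec] using hc₃
        rw [LinearMap.toMatrix_apply, hj, map_smul, Basis.repr_self, Finsupp.smul_apply, Matrix.diagonal_apply,
          Finsupp.single_apply]
        rcases eq_or_ne i j with rfl | hij
        · simp
        · simp [hij, hij.symm]
      refine Eq.trans ?_ (congrArg Matrix.det hM).symm
      rw [Matrix.det_diagonal, Fin.prod_univ_four]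
      simp
    have f1 : ρ p v₁ = v₁ := mem_fixed_zpowers.mp hv₁.1
    have f2 : ρ p v₂ = -v₂ := hp.neg_on_line hp'V hpV g3 hv₂
    have f3 : ρ p v₃ = -v₃ := hp.neg_on_line m3 hpV (by rw [Set.pair_comm]; exact g1) hv₃
    have k1 : ρ p' v₁ = -v₁ := hp.neg_on_line hpV hp'V (by rw [Set.pair_comm]; exact g3) hv₁
    have k2 : ρ p' v₂ = v₂ := mem_fixed_zpowers.mp hv₂.1
    have k3 : ρ p' v₃ = -v₃ := hp.neg_on_line m3 hp'V (by rw [Set.pair_comm]; exact g2) hv₃
    have f0 : ρ p v₀ = v₀ := mem_fixed.mp hv₀.1 p hpV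
    have k0 : ρ p' v₀ = v₀ := mem_fixed.mp hv₀.1 p' hp'V
    have hF0 := hv₀.2; have hF1 := hWF hv₁.2; have hF2 := hWF hv₂.2; have hF3 := hWF hv₃.2
    have hn : ∀ w : E, (-1 : ZMod 3) • w = -w := fun w => by simp
    have key : ∀ t ∈ R, ρ t v₀ = c₀ • v₀ → ρ t v₁ = c₁ • v₁ → ρ t v₂ = c₂ • v₂ → ρ t v₃ = c₃ • v₃ → g = t := by
      intro t ht a0 a1 a2 a3
      refine h.eq_of hg ht fun v hv => ?_
      obtain ⟨d0, d1, d2, d3, rfl⟩ := hsum v hv
      simp only [map_add, map_smul, ← hc₀, ← hc₁, hc₂, hc₃, a0, a1, a2, a3]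
    have n0 := hneg _ hF0; have n1 := hneg _ hF1; have n2 := hneg _ hF2; have n3 := hneg _ hF3
    rcases (sign_cases c₀ c₁ c₂ c₃).resolve_left (fun hh => hh hdet) with
      ⟨rfl, rfl, rfl, rfl⟩ | ⟨rfl, rfl, rfl, rfl⟩ | ⟨rfl, rfl, rfl, rfl⟩ | ⟨rfl, rfl, rfl, rfl⟩ |
      ⟨rfl, rfl, rfl, rfl⟩ | ⟨rfl, rfl, rfl, rfl⟩ | ⟨rfl, rfl, rfl, rfl⟩ | ⟨rfl, rfl, rfl, rfl⟩
    · exact Or.inl (key 1 R.one_mem (by simp) (by simp) (by simp) (by simp) ▸ V.one_mem)
    · exact Or.inl (key p hpR (by simp [f0]) (by simp [f1]) (by rw [f2, hn]) (by rw [f3, hn]) ▸ hpV)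
    · exact Or.inl (key p' hp'R (by simp [k0]) (by rw [k1, hn]) (by simp [k2]) (by rw [k3, hn]) ▸ hp'V)
    · refine Or.inl (key (p * p') (hVR m3) ?_ ?_ ?_ ?_ ▸ m3)
      · rw [rho_mul, k0, f0, one_smul]
      · rw [rho_mul, k1, map_neg, f1, hn]
      · rw [rho_mul, k2, f2, hn]
      · rw [rho_mul, k3, map_neg, f3, neg_neg, one_smul]
    · refine Or.inr ?_
      rw [key z hzR (by rw [n0, hn]) (by rw [n1, hn]) (by rw [n2, hn]) (by rw [n3, hn]), hz2]
      exact V.one_mem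
    · refine Or.inr ?_
      rw [key (z * p) (R.mul_mem hzR hpR) (by rw [rho_mul, f0, n0, hn]) (by rw [rho_mul, f1, n1, hn])
        (by rw [rho_mul, f2, map_neg, n2, neg_neg, one_smul]) (by rw [rho_mul, f3, map_neg, n3, neg_neg, one_smul]),
        hzz]
      exact hpV
    · refine Or.inr ?_
      rw [key (z * p') (R.mul_mem hzR hp'R) (by rw [rho_mul, k0, n0, hn])
        (by rw [rho_mul, k1, map_neg, n1, neg_neg, one_smul]) (by rw [rho_mul, k2, n2, hn])
        (by rw [rho_mul, k3, map_neg, n3, neg_neg, one_smul]), hzz]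
      exact hp'V
    · refine Or.inr ?_
      rw [key (z * (p * p')) (R.mul_mem hzR (hVR m3)) ?_ ?_ ?_ ?_, hzz]
      · exact m3
      · rw [rho_mul, rho_mul, k0, f0, n0, hn]
      · rw [rho_mul, rho_mul, k1, map_neg, f1, map_neg, n1, neg_neg, one_smul]
      · rw [rho_mul, rho_mul, k2, f2, map_neg, n2, neg_neg, one_smul]
      · rw [rho_mul, rho_mul, k3, map_neg, f3, neg_neg, n3, hn]
  -- the elementary subgroup
  let A : Subgroup S :=
    { carrier := {g | g ∈ V ∨ z * g ∈ V}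
      one_mem' := Or.inl V.one_mem
      mul_mem' := fun {g g'} hg hg' => by
        have hgR : g ∈ R := by
          rcases hg with h1 | h1
          · exact hVR h1
          · have := R.mul_mem hzR (hVR h1); rwa [hzz] at this
        rcases hg with h1 | h1 <;> rcases hg' with h2 | h2
        · exact Or.inl (V.mul_mem h1 h2)
        · right
          have := V.mul_mem h1 h2
          rwa [← mul_assoc, hzc g hgR, mul_assoc] at this
        · right
          rw [← mul_assoc]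
          exact V.mul_mem h1 h2
        · left
          have := V.mul_mem h1 h2
          rwa [show z * g * (z * g') = z * (g * z) * g' by group, hzc g hgR, hzz] at this
      inv_mem' := fun {g} hg => by
        rcases hg with h1 | h1
        · exact Or.inl (V.inv_mem h1)
        · right
          have hgR : g ∈ R := by have := R.mul_mem hzR (hVR h1); rwa [hzz] at this
          have := V.inv_mem h1
          rwa [mul_inv_rev, inv_eq_of_mul_eq_one_right hz2, hzc _ (R.inv_mem hgR)] at this }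
  have hAmem : ∀ g, g ∈ A ↔ g ∈ V ∨ z * g ∈ V := fun g => Iff.rfl
  have hAR : A ≤ R := fun g hg => by
    rcases hg with h1 | h1
    · exact hVR h1
    · have := R.mul_mem hzR (hVR h1); rwa [hzz] at this
  have hzA : z ∈ A := Or.inr (by rw [hz2]; exact V.one_mem)
  have hVA : V ≤ A := fun g hg => Or.inl hg
  have hV2 : ∀ t ∈ V, t * t = 1 := fun t ht => by
    rcases hp.mem_iff.mp ht with ht' | ht' | ht' | ht' <;> rw [ht']
    · simp
    · exact hp.sq
    · exact hp.sq'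
    · calc p * (b * p * b⁻¹) * (p * (b * p * b⁻¹)) = p * ((b * p * b⁻¹) * p) * (b * p * b⁻¹) := by group
        _ = p * p * ((b * p * b⁻¹) * (b * p * b⁻¹)) := by rw [← hp.comm]; group
        _ = 1 := by rw [hp.sq, hp.sq', one_mul]
  have hAdecomp : ∀ g ∈ A, ∃ i t, (i = 1 ∨ i = z) ∧ t ∈ V ∧ g = i * t := fun g hg => by
    rcases hg with h1 | h1
    · exact ⟨1, g, Or.inl rfl, h1, (one_mul g).symm⟩
    · exact ⟨z, z * g, Or.inr rfl, h1, (hzz g).symm⟩
  have hAab : ∀ g ∈ A, ∀ g' ∈ A, g * g' = g' * g := by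
    intro g hg g' hg'
    obtain ⟨i, t, hi, ht, rfl⟩ := hAdecomp g hg
    obtain ⟨i', t', hi', ht', rfl⟩ := hAdecomp g' hg'
    have ci : ∀ r ∈ R, Commute i r := fun r hr => by
      rcases hi with hi | hi <;> rw [hi]
      · exact Commute.one_left r
      · exact (hzc r hr).symm
    have ci' : ∀ r ∈ R, Commute i' r := fun r hr => by
      rcases hi' with hi' | hi' <;> rw [hi']
      · exact Commute.one_left r
      · exact (hzc r hr).symm
    have hi'R : i' ∈ R := by rcases hi' with hi' | hi' <;> rw [hi'] <;> first | exact R.one_mem | exact hzR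
    exact ((ci i' hi'R).mul_right (ci t' (hVR ht'))).mul_left
      ((ci' t (hVR ht)).symm.mul_right (hp.commute ht ht'))
  have hA2 : ∀ g ∈ A, g * g = 1 := fun g hg => by
    obtain ⟨i, t, hi, ht, rfl⟩ := hAdecomp g hg
    rcases hi with hi | hi <;> rw [hi]
    · rw [one_mul, hV2 t ht]
    · rw [show z * t * (z * t) = z * (t * z) * t by group, hzc t (hVR ht), hzz, hV2 t ht]
  have hVcard : Nat.card V = 4 := by
    have hset : (V : Set S) = {1, p, p', p * p'} := Set.ext fun g => by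
      rw [SetLike.mem_coe, hp.mem_iff]; simp [hp']
    have hp1 : p ≠ 1 := h.four_ne_one hp
    have hp'1 : p' ≠ 1 := fun e => hp1 (by
      calc p = b⁻¹ * (b * p * b⁻¹) * b := by group
        _ = 1 := by rw [← hp', e]; group)
    have hpp : p ≠ p' := fun e => hp.ne e.symm
    have h3 : p * p' ≠ 1 := fun e => hpp ((inv_eq_of_mul_eq_one_right e).symm.trans
      (inv_eq_of_mul_eq_one_right hp.sq)).symm
    show Nat.card (V : Set S) = 4
    rw [hset, Nat.card_coe_set_eq, Set.ncard_insert_of_notMem (by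
      simp only [Set.mem_insert_iff, Set.mem_singleton_iff, not_or]
      exact ⟨fun e => hp1 e.symm, fun e => hp'1 e.symm, fun e => h3 e.symm⟩),
      Set.ncard_insert_of_notMem (by
      simp only [Set.mem_insert_iff, Set.mem_singleton_iff, not_or]
      exact ⟨hpp, fun e => hp'1 (left_eq_mul.mp e)⟩),
      Set.ncard_pair (fun e => hp1 (right_eq_mul.mp e))]
  have hAcard : Nat.card A = 8 := by
    let f : Bool × V → A := fun x => if x.1 then ⟨z * x.2, Or.inr (by rw [hzz]; exact x.2.2)⟩ else ⟨x.2, hVA x.2.2⟩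
    have hf : Function.Bijective f := by
      constructor
      · rintro ⟨i, t⟩ ⟨j, t'⟩ e
        cases i <;> cases j <;> simp only [f, if_true, if_false, Bool.false_eq_true] at e <;>
          replace e := congrArg Subtype.val e <;> simp only at e
        · rw [Subtype.ext e]
        · exact absurd (show z ∈ V by
            have := V.mul_mem t.2 (V.inv_mem t'.2)
            rwa [e, mul_inv_cancel_right] at this) hzV
        · exact absurd (show z ∈ V by
            have := V.mul_mem t'.2 (V.inv_mem t.2)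
            rwa [← e, mul_inv_cancel_right] at this) hzV
        · rw [Subtype.ext (mul_left_cancel e)]
      · rintro ⟨g, h1 | h1⟩
        · exact ⟨(false, ⟨g, h1⟩), rfl⟩
        · refine ⟨(true, ⟨z * g, h1⟩), Subtype.ext ?_⟩
          simp [f, hzz]
    rw [← Nat.card_congr (Equiv.ofBijective f hf), Nat.card_prod, hVcard]
    simp
  have hAfix : ∀ g ∈ A, b * g * b⁻¹ = g → g = 1 ∨ g = z := by
    intro g hg hfix
    obtain ⟨i, t, hi, ht, rfl⟩ := hAdecomp g hg
    have hbi : b * i * b⁻¹ = i := by rcases hi with hi | hi <;> rw [hi] <;> simp [hbz]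
    rw [show b * (i * t) * b⁻¹ = (b * i * b⁻¹) * (b * t * b⁻¹) by group, hbi] at hfix
    rw [hp.fixed_eq_one ht (mul_left_cancel hfix), mul_one]
    exact hi
  have hzp1 : z * p ≠ p := fun e => hz1 (mul_eq_right.mp e)
  have hzp1' : z * p' ≠ p' := fun e => hz1 (mul_eq_right.mp e)
  -- signs
  have hflip : ∀ g ∈ R, ∀ g' ∈ R, ∀ t ∈ R, NearCentral z t R →
      g * g' * t * (g * g')⁻¹ = g' * g * t * (g' * g)⁻¹ := by
    intro g hg g' hg' t ht htN
    have e : ∀ a ∈ R, ∀ c ∈ R, a * c * t * (a * c)⁻¹ =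
        if c * t * c⁻¹ = t then a * t * a⁻¹ else z * (a * t * a⁻¹) := by
      intro a ha c hc
      rw [show a * c * t * (a * c)⁻¹ = a * (c * t * c⁻¹) * a⁻¹ by group]
      split
      · next h1 => rw [h1]
      · next h1 =>
        rw [(hact t ht htN c hc).resolve_left h1, ← mul_assoc a, hzc a ha]; group
    rw [e g hg g' hg', e g' hg' g hg]
    have hzt : z * t ≠ t := fun e => hz1 (mul_eq_right.mp e)
    rcases hact t ht htN g hg with h1 | h1 <;> rcases hact t ht htN g' hg' with h2 | h2 <;>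
      simp only [h1, h2, hzt, if_true, if_false]
  set r₂ := b * r₁ * b⁻¹ with hr₂
  set r₃ := b * r₂ * b⁻¹ with hr₃
  have hr₂R : r₂ ∈ R := h.b_inv hr₁
  have hr₃R : r₃ ∈ R := h.b_inv hr₂R
  have hpp'N : NearCentral z (p * p') R := fun r hr => by
    rw [show p * p' * r * (p * p')⁻¹ = p * (p' * r * p'⁻¹) * p⁻¹ by group]
    rcases hp'N r hr with h1 | h1 <;> rw [h1]
    · exact hpN r hr
    · rw [show p * (z * r) * p⁻¹ = (p * z) * r * p⁻¹ by group, hpz, show z * p * r * p⁻¹ = z * (p * r * p⁻¹) by group]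
      rcases hpN r hr with h2 | h2 <;> rw [h2]
      · exact Or.inr rfl
      · exact Or.inl (hzz r)
  -- sign patterns of the rotated elements
  have hrot : ∀ (g t : S), b * g * b⁻¹ * (b * t * b⁻¹) * (b * g * b⁻¹)⁻¹ = b * (g * t * g⁻¹) * b⁻¹ := fun g t => by
    group
  have hrotz : ∀ t : S, b * (z * t) * b⁻¹ = z * (b * t * b⁻¹) := fun t => by
    rw [show b * (z * t) * b⁻¹ = (b * z * b⁻¹) * (b * t * b⁻¹) by group, hbz]
  have hr₂p' : r₂ * p' * r₂⁻¹ = z * p' := by rw [hr₂, hp', hrot, hr₁p, hrotz]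
  have hr₂p : r₂ * p * r₂⁻¹ = b * (r₁ * (p * p') * r₁⁻¹) * b⁻¹ := by
    conv_lhs => rw [← hmap3, hr₂, hrot]
  -- representatives
  have hreps : ∀ r ∈ R, ∃ w, (w = 1 ∨ w = r₁ ∨ w = r₂ ∨ w = r₁ * r₂) ∧ w⁻¹ * r ∈ A := by
    intro r hr
    have hmk : ∀ w ∈ R, w * p * w⁻¹ = r * p * r⁻¹ → w * p' * w⁻¹ = r * p' * r⁻¹ → w⁻¹ * r ∈ A := by
      intro w hw a1 a2
      refine hdiag _ (R.mul_mem (R.inv_mem hw) hr) ?_ ?_
      · calc w⁻¹ * r * p = w⁻¹ * (r * p * r⁻¹) * r := by group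
          _ = p * (w⁻¹ * r) := by rw [← a1]; group
      · calc w⁻¹ * r * p' = w⁻¹ * (r * p' * r⁻¹) * r := by group
          _ = p' * (w⁻¹ * r) := by rw [← a2]; group
    have hmulz : ∀ a c t : S, a ∈ R → c * t * c⁻¹ = z * t → a * c * t * (a * c)⁻¹ = z * (a * t * a⁻¹) := by
      intro a c t ha e
      rw [show a * c * t * (a * c)⁻¹ = a * (c * t * c⁻¹) * a⁻¹ by group, e, ← mul_assoc a, hzc a ha]; group
    have hmul1 : ∀ a c t : S, c * t * c⁻¹ = t → a * c * t * (a * c)⁻¹ = a * t * a⁻¹ := by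
      intro a c t e
      rw [show a * c * t * (a * c)⁻¹ = a * (c * t * c⁻¹) * a⁻¹ by group, e]
    have h11 : (1 : S) * p * 1⁻¹ = p ∧ (1 : S) * p' * 1⁻¹ = p' := ⟨by group, by group⟩
    have h12R : r₁ * r₂ ∈ R := R.mul_mem hr₁ hr₂R
    have h12p' : r₁ * r₂ * p' * (r₁ * r₂)⁻¹ = z * (r₁ * p' * r₁⁻¹) := hmulz r₁ r₂ p' hr₁ hr₂p'
    rcases hact p' hp'R hp'N r₁ hr₁ with e' | e'
    · -- `r₁` moves `p` and fixes `p'`, `r₂` moves both
      have e3 : r₁ * (p * p') * r₁⁻¹ = z * (p * p') := by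
        rw [show r₁ * (p * p') * r₁⁻¹ = (r₁ * p * r₁⁻¹) * (r₁ * p' * r₁⁻¹) by group, hr₁p, e', mul_assoc]
      have e2p : r₂ * p * r₂⁻¹ = z * p := by rw [hr₂p, e3, hrotz, hmap3]
      have h12p : r₁ * r₂ * p * (r₁ * r₂)⁻¹ = p := by rw [hmulz r₁ r₂ p hr₁ e2p, hr₁p, hzz]
      rw [e'] at h12p'
      rcases hact p hpR hpN r hr with a1 | a1 <;> rcases hact p' hp'R hp'N r hr with a2 | a2
      · exact ⟨1, Or.inl rfl, hmk 1 R.one_mem (h11.1.trans a1.symm) (h11.2.trans a2.symm)⟩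
      · exact ⟨r₁ * r₂, Or.inr (Or.inr (Or.inr rfl)), hmk _ h12R (h12p.trans a1.symm) (h12p'.trans a2.symm)⟩
      · exact ⟨r₁, Or.inr (Or.inl rfl), hmk _ hr₁ (hr₁p.trans a1.symm) (e'.trans a2.symm)⟩
      · exact ⟨r₂, Or.inr (Or.inr (Or.inl rfl)), hmk _ hr₂R (e2p.trans a1.symm) (hr₂p'.trans a2.symm)⟩
    · -- `r₁` moves both, `r₂` fixes `p`
      have e3 : r₁ * (p * p') * r₁⁻¹ = p * p' := by
        rw [show r₁ * (p * p') * r₁⁻¹ = (r₁ * p * r₁⁻¹) * (r₁ * p' * r₁⁻¹) by group, hr₁p, e', mul_assoc z p,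
          ← mul_assoc p z, hpz, mul_assoc z p p', hzz]
      have e2p : r₂ * p * r₂⁻¹ = p := by rw [hr₂p, e3, hmap3]
      have h12p : r₁ * r₂ * p * (r₁ * r₂)⁻¹ = z * p := by rw [hmul1 r₁ r₂ p e2p, hr₁p]
      rw [e', hzz] at h12p'
      rcases hact p hpR hpN r hr with a1 | a1 <;> rcases hact p' hp'R hp'N r hr with a2 | a2
      · exact ⟨1, Or.inl rfl, hmk 1 R.one_mem (h11.1.trans a1.symm) (h11.2.trans a2.symm)⟩
      · exact ⟨r₂, Or.inr (Or.inr (Or.inl rfl)), hmk _ hr₂R (e2p.trans a1.symm) (hr₂p'.trans a2.symm)⟩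
      · exact ⟨r₁ * r₂, Or.inr (Or.inr (Or.inr rfl)), hmk _ h12R (h12p.trans a1.symm) (h12p'.trans a2.symm)⟩
      · exact ⟨r₁, Or.inr (Or.inl rfl), hmk _ hr₁ (hr₁p.trans a1.symm) (e'.trans a2.symm)⟩
  -- all elements are nearly central
  have hNA : ∀ a ∈ A, NearCentral z a R := fun a ha r hr => by
    obtain ⟨i, t, hi, ht, rfl⟩ := hAdecomp a ha
    have htN : NearCentral z t R := by
      rcases hp.mem_iff.mp ht with ht' | ht' | ht' | ht' <;> rw [ht']
      · exact fun r _ => Or.inl (by group)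
      · exact hpN
      · exact hp'N
      · exact hpp'N
    have e : i * t * r * (i * t)⁻¹ = t * r * t⁻¹ := by
      rcases hi with hi | hi <;> rw [hi]
      · simp
      · rw [show z * t * r * (z * t)⁻¹ = z * (t * r * t⁻¹) * z⁻¹ by group,
          ← hzc _ (R.mul_mem (R.mul_mem (hVR ht) hr) (R.inv_mem (hVR ht)))]
        group
    rw [e]; exact htN r hr
  set U := secondCentre R z hz2 hzc with hU
  have hAU : A ≤ U := fun a ha => mem_secondCentre.mpr ⟨hAR ha, hNA a ha⟩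
  set c := r₁ * r₂ * r₁⁻¹ * r₂⁻¹ with hc
  have hcR : c ∈ R := R.mul_mem (R.mul_mem (R.mul_mem hr₁ hr₂R) (R.inv_mem hr₁)) (R.inv_mem hr₂R)
  have hcfix : ∀ t ∈ R, NearCentral z t R → c * t = t * c := fun t ht htN => by
    have e := hflip r₁ hr₁ r₂ hr₂R t ht htN
    set w := r₂ * r₁ with hw
    have e2 : r₁ * r₂ * t * (r₁ * r₂)⁻¹ = w * t * w⁻¹ := e
    have hcw : c = r₁ * r₂ * w⁻¹ := by rw [hc, hw]; group
    have hwR : w ∈ R := R.mul_mem hr₂R hr₁
    rcases hact t ht htN w hwR with h1 | h1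
    · rw [h1] at e2
      rw [hcw]
      calc r₁ * r₂ * w⁻¹ * t = r₁ * r₂ * (w⁻¹ * (w * t * w⁻¹)) := by rw [h1, mul_assoc]
        _ = r₁ * r₂ * t * w⁻¹ := by group
        _ = t * (r₁ * r₂) * w⁻¹ := by rw [mul_inv_eq_iff_eq_mul.mp e2]
        _ = t * (r₁ * r₂ * w⁻¹) := by rw [mul_assoc]
    · rw [h1] at e2
      have hwt : w⁻¹ * t = z * (t * w⁻¹) := by
        calc w⁻¹ * t = w⁻¹ * (z * (z * t)) := by rw [hzz]
          _ = w⁻¹ * (z * (w * t * w⁻¹)) := by rw [h1]
          _ = w⁻¹ * z * (w * t * w⁻¹) := (mul_assoc _ _ _).symm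
          _ = z * (t * w⁻¹) := by rw [hzc _ (R.inv_mem hwR)]; group
      rw [hcw]
      calc r₁ * r₂ * w⁻¹ * t = r₁ * r₂ * (z * (t * w⁻¹)) := by rw [mul_assoc, hwt]
        _ = (r₁ * r₂ * z) * t * w⁻¹ := by group
        _ = z * (r₁ * r₂ * t) * w⁻¹ := by rw [hzc _ (R.mul_mem hr₁ hr₂R)]; group
        _ = z * (z * t * (r₁ * r₂)) * w⁻¹ := by rw [mul_inv_eq_iff_eq_mul.mp e2]
        _ = t * (r₁ * r₂ * w⁻¹) := by rw [mul_assoc z t, hzz, mul_assoc]
  have hcA : c ∈ A := hdiag c hcR (hcfix p hpR hpN) (hcfix p' hp'R hp'N)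
  have hcz : c = 1 ∨ c = z := by
    -- `r₃ = i (r₁ r₂) a`
    obtain ⟨a, ha, hr₃e⟩ : ∃ a ∈ A, r₃ = r₁ * r₂ * a := by
      refine ⟨(r₁ * r₂)⁻¹ * r₃, ?_, by group⟩
      have e3p' : r₃ * p' * r₃⁻¹ = b * (r₂ * p * r₂⁻¹) * b⁻¹ := by rw [hr₃, hp', hrot]
      have e3pp : r₃ * (p * p') * r₃⁻¹ = z * (p * p') := by
        have h1 := congrArg (fun t => b * t * b⁻¹) hr₂p'
        simp only [← hrot, hrotz, ← hr₃] at h1
        rwa [show b * p' * b⁻¹ = p * p' by rw [hp', hp.prod]] at h1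
      have e3p : r₃ * p * r₃⁻¹ = (r₃ * (p * p') * r₃⁻¹) * (r₃ * p' * r₃⁻¹)⁻¹ := by group
      have hz' : z⁻¹ = z := inv_eq_of_mul_eq_one_right hz2
      refine hdiag _ (R.mul_mem (R.inv_mem (R.mul_mem hr₁ hr₂R)) hr₃R) ?_ ?_
      all_goals
        rcases hact p' hp'R hp'N r₁ hr₁ with e' | e'
        · have e3 : r₁ * (p * p') * r₁⁻¹ = z * (p * p') := by
            rw [show r₁ * (p * p') * r₁⁻¹ = (r₁ * p * r₁⁻¹) * (r₁ * p' * r₁⁻¹) by group, hr₁p, e', mul_assoc]
          have e2p : r₂ * p * r₂⁻¹ = z * p := by rw [hr₂p, e3, hrotz, hmap3]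
          have a2 : r₃ * p' * r₃⁻¹ = z * p' := by rw [e3p', e2p, hrotz]
          have a1 : r₃ * p * r₃⁻¹ = p := by
            rw [e3p, e3pp, a2, mul_inv_rev, hz', hp', inv_eq_of_mul_eq_one_right hp.sq', ← hp']
            rw [show z * (p * p') * (p' * z) = z * (p * (p' * p')) * z by group, show p' * p' = 1 from hp.sq',
              mul_one, mul_assoc, hpz, hzz]
          have b1 : r₁ * r₂ * p * (r₁ * r₂)⁻¹ = p := by
            rw [show r₁ * r₂ * p * (r₁ * r₂)⁻¹ = r₁ * (r₂ * p * r₂⁻¹) * r₁⁻¹ by group, e2p, ← mul_assoc r₁,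
              hzc r₁ hr₁, show z * r₁ * p * r₁⁻¹ = z * (r₁ * p * r₁⁻¹) by group, hr₁p, hzz]
          have b2 : r₁ * r₂ * p' * (r₁ * r₂)⁻¹ = z * p' := by
            rw [show r₁ * r₂ * p' * (r₁ * r₂)⁻¹ = r₁ * (r₂ * p' * r₂⁻¹) * r₁⁻¹ by group, hr₂p', ← mul_assoc r₁,
              hzc r₁ hr₁, show z * r₁ * p' * r₁⁻¹ = z * (r₁ * p' * r₁⁻¹) by group, e']
          first
            | calc (r₁ * r₂)⁻¹ * r₃ * p = (r₁ * r₂)⁻¹ * (r₃ * p * r₃⁻¹) * r₃ := by group
                _ = p * ((r₁ * r₂)⁻¹ * r₃) := by rw [a1.trans b1.symm]; group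
            | calc (r₁ * r₂)⁻¹ * r₃ * p' = (r₁ * r₂)⁻¹ * (r₃ * p' * r₃⁻¹) * r₃ := by group
                _ = p' * ((r₁ * r₂)⁻¹ * r₃) := by rw [a2.trans b2.symm]; group
        · have e3 : r₁ * (p * p') * r₁⁻¹ = p * p' := by
            rw [show r₁ * (p * p') * r₁⁻¹ = (r₁ * p * r₁⁻¹) * (r₁ * p' * r₁⁻¹) by group, hr₁p, e', mul_assoc z p,
              ← mul_assoc p z, hpz, mul_assoc z p p', hzz]
          have e2p : r₂ * p * r₂⁻¹ = p := by rw [hr₂p, e3, hmap3]
          have a2 : r₃ * p' * r₃⁻¹ = p' := by rw [e3p', e2p]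
          have a1 : r₃ * p * r₃⁻¹ = z * p := by
            rw [e3p, e3pp, a2]; group
          have b1 : r₁ * r₂ * p * (r₁ * r₂)⁻¹ = z * p := by
            rw [show r₁ * r₂ * p * (r₁ * r₂)⁻¹ = r₁ * (r₂ * p * r₂⁻¹) * r₁⁻¹ by group, e2p, hr₁p]
          have b2 : r₁ * r₂ * p' * (r₁ * r₂)⁻¹ = p' := by
            rw [show r₁ * r₂ * p' * (r₁ * r₂)⁻¹ = r₁ * (r₂ * p' * r₂⁻¹) * r₁⁻¹ by group, hr₂p', ← mul_assoc r₁,
              hzc r₁ hr₁, show z * r₁ * p' * r₁⁻¹ = z * (r₁ * p' * r₁⁻¹) by group, e', hzz]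
          first
            | calc (r₁ * r₂)⁻¹ * r₃ * p = (r₁ * r₂)⁻¹ * (r₃ * p * r₃⁻¹) * r₃ := by group
                _ = p * ((r₁ * r₂)⁻¹ * r₃) := by rw [a1.trans b1.symm]; group
            | calc (r₁ * r₂)⁻¹ * r₃ * p' = (r₁ * r₂)⁻¹ * (r₃ * p' * r₃⁻¹) * r₃ := by group
                _ = p' * ((r₁ * r₂)⁻¹ * r₃) := by rw [a2.trans b2.symm]; group
    have hcc : c⁻¹ = c := inv_eq_of_mul_eq_one_right (hA2 c hcA)
    have hbc : b * c * b⁻¹ = c ∨ b * c * b⁻¹ = z * c := by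
      have e1 : b * c * b⁻¹ = r₂ * r₃ * r₂⁻¹ * r₃⁻¹ := by rw [hc, hr₃, hr₂]; group
      have e2 : r₂ * r₃ * r₂⁻¹ * r₃⁻¹ = r₂ * r₁ * r₂ * (a * r₂⁻¹ * a⁻¹) * r₂⁻¹ * r₁⁻¹ := by rw [hr₃e]; group
      have e3 : r₂ * r₁ * r₂⁻¹ * r₁⁻¹ = c⁻¹ := by rw [hc]; group
      rw [e1, e2]
      rcases hNA a ha _ (R.inv_mem hr₂R) with h1 | h1 <;> rw [h1]
      · left
        rw [← hcc, ← e3]; group
      · right
        rw [show r₂ * r₁ * r₂ * (z * r₂⁻¹) * r₂⁻¹ * r₁⁻¹ = (r₂ * r₁ * r₂ * z) * (r₂⁻¹ * r₂⁻¹ * r₁⁻¹) by group,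
          hzc _ (R.mul_mem (R.mul_mem hr₂R hr₁) hr₂R),
          show z * (r₂ * r₁ * r₂) * (r₂⁻¹ * r₂⁻¹ * r₁⁻¹) = z * (r₂ * r₁ * r₂⁻¹ * r₁⁻¹) by group, e3, hcc]
    rcases hbc with hbc | hbc
    · exact hAfix c hcA hbc
    · exfalso
      obtain ⟨i, t, hi, ht, hct⟩ := hAdecomp c hcA
      have hbi : b * i * b⁻¹ = i := by rcases hi with hi | hi <;> rw [hi] <;> simp [hbz]
      rw [hct, show b * (i * t) * b⁻¹ = (b * i * b⁻¹) * (b * t * b⁻¹) by group, hbi] at hbc
      have hiR : i ∈ R := by rcases hi with hi | hi <;> rw [hi] <;> first | exact R.one_mem | exact hzR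
      rw [show z * (i * t) = i * (z * t) by rw [← mul_assoc, ← hzc i hiR, mul_assoc]] at hbc
      have hbt := mul_left_cancel hbc
      apply hzV
      have hbtV : b * t * b⁻¹ ∈ V := (normal_conj_inv (hp.conj_mem hb3)).1 t ht
      have := V.mul_mem hbtV (V.inv_mem ht)
      rwa [hbt, mul_inv_cancel_right] at this
  have hr₁U : r₁ ∈ U ∧ r₂ ∈ U := by
    have h12 : r₁ * r₂ * r₁⁻¹ = r₂ ∨ r₁ * r₂ * r₁⁻¹ = z * r₂ := by
      rcases hcz with h1 | h1
      · exact Or.inl (mul_inv_eq_one.mp h1)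
      · exact Or.inr (mul_inv_eq_iff_eq_mul.mp h1)
    have h21 : r₂ * r₁ * r₂⁻¹ = r₁ ∨ r₂ * r₁ * r₂⁻¹ = z * r₁ := by
      rcases h12 with h1 | h1
      · left; rw [show r₂ * r₁ = r₁ * r₂ from (mul_inv_eq_iff_eq_mul.mp h1).symm, mul_inv_cancel_right]
      · right
        have e : r₁ * r₂ = z * (r₂ * r₁) := by rw [mul_inv_eq_iff_eq_mul.mp h1, mul_assoc]
        rw [show r₂ * r₁ = z * (r₁ * r₂) by rw [e, hzz], mul_assoc, mul_inv_cancel_right]
    have hfrom : ∀ g ∈ R, (g * r₁ * g⁻¹ = r₁ ∨ g * r₁ * g⁻¹ = z * r₁) → (g * r₂ * g⁻¹ = r₂ ∨ g * r₂ * g⁻¹ = z * r₂) →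
        g ∈ U := by
      intro g hg e1 e2
      refine mem_secondCentre.mpr ⟨hg, fun r hr => ?_⟩
      have hmul : ∀ s t : S, (g * s * g⁻¹ = s ∨ g * s * g⁻¹ = z * s) → (g * t * g⁻¹ = t ∨ g * t * g⁻¹ = z * t) →
          s ∈ R → (g * (s * t) * g⁻¹ = s * t ∨ g * (s * t) * g⁻¹ = z * (s * t)) := by
        intro s t a1 a2 hs
        rw [show g * (s * t) * g⁻¹ = (g * s * g⁻¹) * (g * t * g⁻¹) by group]
        rcases a1 with a1 | a1 <;> rcases a2 with a2 | a2 <;> rw [a1, a2]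
        · exact Or.inl rfl
        · right; rw [← mul_assoc, hzc s hs, mul_assoc]
        · right; rw [mul_assoc]
        · left; rw [mul_assoc z, ← mul_assoc s, hzc s hs, mul_assoc z s, hzz]
      obtain ⟨w, hw, hwA⟩ := hreps r hr
      have hwR : w ∈ R := by
        rcases hw with hw | hw | hw | hw <;> rw [hw]
        exacts [R.one_mem, hr₁, hr₂R, R.mul_mem hr₁ hr₂R]
      have ew : g * w * g⁻¹ = w ∨ g * w * g⁻¹ = z * w := by
        rcases hw with hw | hw | hw | hw <;> rw [hw]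
        · left; group
        · exact e1
        · exact e2
        · exact hmul r₁ r₂ e1 e2 hr₁
      have := hmul w (w⁻¹ * r) ew (hact _ (hAR hwA) (hNA _ hwA) g hg) hwR
      rwa [mul_inv_cancel_left] at this
    exact ⟨hfrom r₁ hr₁ (Or.inl (by group)) h12, hfrom r₂ hr₂R h21 (Or.inl (by group))⟩
  have hall : ∀ r ∈ R, NearCentral z r R := fun r hr => by
    obtain ⟨w, hw, hwA⟩ := hreps r hr
    have hwU : w ∈ U := by
      rcases hw with hw | hw | hw | hw <;> rw [hw]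
      exacts [U.one_mem, hr₁U.1, hr₁U.2, U.mul_mem hr₁U.1 hr₁U.2]
    have := U.mul_mem hwU (hAU hwA)
    rw [mul_inv_cancel_left] at this
    exact (mem_secondCentre.mp this).2
  have hcentre : ∀ g ∈ R, (∀ r ∈ R, r * g = g * r) → g = 1 ∨ g = z := fun g hg hgc =>
    hAfix g (hdiag g hg (hgc p hpR).symm (hgc p' hp'R).symm) (h.centre_fixed hna hg hgc)
  -- the order
  have hcard : Nat.card R = 32 := by
    let W4 : Fin 4 → S := ![1, r₁, r₂, r₁ * r₂]
    have hW4 : ∀ i, W4 i ∈ R := fun i => by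
      fin_cases i <;> simp [W4] <;> first | exact hr₁ | exact hr₂R | exact R.mul_mem hr₁ hr₂R
    let f : Fin 4 × A → R := fun x => ⟨W4 x.1 * x.2, R.mul_mem (hW4 x.1) (hAR x.2.2)⟩
    have hA_fix : ∀ a ∈ A, a * p * a⁻¹ = p ∧ a * p' * a⁻¹ = p' := fun a ha =>
      ⟨mul_inv_eq_iff_eq_mul.mpr (hAab a ha p (hVA hpV)), mul_inv_eq_iff_eq_mul.mpr (hAab a ha p' (hVA hp'V))⟩
    let sig : S → Prop × Prop := fun g => (g * p * g⁻¹ = p, g * p' * g⁻¹ = p')
    have hsig : ∀ (g : S), ∀ a ∈ A, sig (g * a) = sig g := fun g a ha => by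
      obtain ⟨a1, a2⟩ := hA_fix a ha
      simp only [sig, show g * a * p * (g * a)⁻¹ = g * (a * p * a⁻¹) * g⁻¹ by group,
        show g * a * p' * (g * a)⁻¹ = g * (a * p' * a⁻¹) * g⁻¹ by group, a1, a2]
    have hsig4 : ∀ i j, sig (W4 i) = sig (W4 j) → i = j := by
      have h0 : (1 * p * (1 : S)⁻¹ = p) ∧ (1 * p' * (1 : S)⁻¹ = p') := ⟨by group, by group⟩
      have h1 : ¬ r₁ * p * r₁⁻¹ = p := by rw [hr₁p]; exact hzp1
      have h2 : ¬ r₂ * p' * r₂⁻¹ = p' := by rw [hr₂p']; exact hzp1'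
      rcases hact p' hp'R hp'N r₁ hr₁ with e' | e'
      · have e2p : r₂ * p * r₂⁻¹ = z * p := by
          rw [hr₂p, show r₁ * (p * p') * r₁⁻¹ = z * (p * p') by
            rw [show r₁ * (p * p') * r₁⁻¹ = (r₁ * p * r₁⁻¹) * (r₁ * p' * r₁⁻¹) by group, hr₁p, e', mul_assoc],
            hrotz, hmap3]
        have h3 : r₁ * r₂ * p * (r₁ * r₂)⁻¹ = p := by
          rw [show r₁ * r₂ * p * (r₁ * r₂)⁻¹ = r₁ * (r₂ * p * r₂⁻¹) * r₁⁻¹ by group, e2p, ← mul_assoc r₁,
            hzc r₁ hr₁, show z * r₁ * p * r₁⁻¹ = z * (r₁ * p * r₁⁻¹) by group, hr₁p, hzz]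
        have h4 : ¬ r₁ * r₂ * p' * (r₁ * r₂)⁻¹ = p' := by
          rw [show r₁ * r₂ * p' * (r₁ * r₂)⁻¹ = r₁ * (r₂ * p' * r₂⁻¹) * r₁⁻¹ by group, hr₂p', ← mul_assoc r₁,
            hzc r₁ hr₁, show z * r₁ * p' * r₁⁻¹ = z * (r₁ * p' * r₁⁻¹) by group, e']
          exact hzp1'
        have h5 : ¬ r₂ * p * r₂⁻¹ = p := by rw [e2p]; exact hzp1
        intro i j
        fin_cases i <;> fin_cases j <;>
          simp only [sig, W4, Matrix.cons_val_zero, Matrix.cons_val_one, Matrix.cons_val, Fin.zero_eta, Fin.mk_one,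
            Fin.reduceFinMk, Prod.mk.injEq, eq_iff_iff] <;>
          simp only [h0, h1, h2, e', h3, h4, h5, true_iff, iff_true, iff_self, and_self, false_iff, iff_false,
            not_true, and_false, false_and, imp_true_iff, false_implies]
      · have e2p : r₂ * p * r₂⁻¹ = p := by
          rw [hr₂p, show r₁ * (p * p') * r₁⁻¹ = p * p' by
            rw [show r₁ * (p * p') * r₁⁻¹ = (r₁ * p * r₁⁻¹) * (r₁ * p' * r₁⁻¹) by group, hr₁p, e', mul_assoc z p,
              ← mul_assoc p z, hpz, mul_assoc z p p', hzz], hmap3]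
        have h3 : ¬ r₁ * r₂ * p * (r₁ * r₂)⁻¹ = p := by
          rw [show r₁ * r₂ * p * (r₁ * r₂)⁻¹ = r₁ * (r₂ * p * r₂⁻¹) * r₁⁻¹ by group, e2p]
          exact h1
        have h4 : r₁ * r₂ * p' * (r₁ * r₂)⁻¹ = p' := by
          rw [show r₁ * r₂ * p' * (r₁ * r₂)⁻¹ = r₁ * (r₂ * p' * r₂⁻¹) * r₁⁻¹ by group, hr₂p', ← mul_assoc r₁,
            hzc r₁ hr₁, show z * r₁ * p' * r₁⁻¹ = z * (r₁ * p' * r₁⁻¹) by group, e', hzz]
        have h5 : ¬ r₁ * p' * r₁⁻¹ = p' := by rw [e']; exact hzp1'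
        intro i j
        fin_cases i <;> fin_cases j <;>
          simp only [sig, W4, Matrix.cons_val_zero, Matrix.cons_val_one, Matrix.cons_val, Fin.zero_eta, Fin.mk_one,
            Fin.reduceFinMk, Prod.mk.injEq, eq_iff_iff] <;>
          simp only [h0, h1, h2, e2p, h3, h4, h5, true_iff, iff_true, iff_self, and_self, false_iff, iff_false,
            not_true, and_false, false_and, imp_true_iff, false_implies]
    have hf : Function.Bijective f := by
      constructor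
      · rintro ⟨i, a⟩ ⟨j, a'⟩ e
        have e' : W4 i * a = W4 j * a' := congrArg Subtype.val e
        have hij : i = j := hsig4 i j (by rw [← hsig (W4 i) a a.2, e', hsig (W4 j) a' a'.2])
        subst hij
        rw [Subtype.ext (mul_left_cancel e')]
      · rintro ⟨r, hr⟩
        obtain ⟨w, hw, hwA⟩ := hreps r hr
        rcases hw with hw | hw | hw | hw
        · exact ⟨(0, ⟨_, hwA⟩), Subtype.ext (by simp [f, W4, hw])⟩
        · exact ⟨(1, ⟨_, hwA⟩), Subtype.ext (by simp [f, W4, hw])⟩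
        · exact ⟨(2, ⟨_, hwA⟩), Subtype.ext (by simp [f, W4, hw])⟩
        · exact ⟨(3, ⟨_, hwA⟩), Subtype.ext (by simp [f, W4, hw, mul_assoc])⟩
    rw [← Nat.card_congr (Equiv.ofBijective f hf), Nat.card_prod, hAcard]
    simp
  -- conclusion
  refine ⟨⟨⟨h.isTwo, ?_⟩, ?_⟩, hcard, A, hAR, ⟨⟨⟨fun g g' => Subtype.ext (hAab g g.2 g' g'.2)⟩⟩,
    fun g hg => by rw [pow_two]; exact hA2 g hg⟩, hAcard⟩
  · have hcen : ∀ g : R, g ∈ Subgroup.center R ↔ ((g : S) = 1 ∨ (g : S) = z) := by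
      intro g
      rw [Subgroup.mem_center_iff]
      refine ⟨fun hg => hcentre g g.2 fun r hr => congrArg Subtype.val (hg ⟨r, hr⟩), fun hg r => Subtype.ext ?_⟩
      show (r : S) * g = g * r
      rcases hg with hg | hg <;> rw [hg]
      · simp
      · exact hzc r r.2
    have hcomm : commutator R ≤ Subgroup.center R := by
      rw [commutator_def, Subgroup.commutator_le]
      intro g _ g' _
      rw [hcen]
      show (g : S) * g' * (g : S)⁻¹ * (g' : S)⁻¹ = 1 ∨ (g : S) * g' * (g : S)⁻¹ * (g' : S)⁻¹ = z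
      rcases hall g g.2 g' g'.2 with h1 | h1 <;> rw [h1]
      · left; group
      · right; group
    have hzcomm : (⟨z, hzR⟩ : R) ∈ commutator R := by
      have e : (⟨z, hzR⟩ : R) = ⁅(⟨r₁, hr₁⟩ : R), ⟨p, hpR⟩⁆ := Subtype.ext (by
        show z = r₁ * p * r₁⁻¹ * p⁻¹
        rw [hr₁p, mul_inv_cancel_right])
      rw [e, commutator_def]
      exact Subgroup.commutator_mem_commutator (Subgroup.mem_top _) (Subgroup.mem_top _)
    have hle : Subgroup.center R ≤ commutator R := fun g hg => by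
      rcases (hcen g).mp hg with h1 | h1
      · rw [show g = 1 from Subtype.ext h1]; exact (commutator R).one_mem
      · rw [show g = ⟨z, hzR⟩ from Subtype.ext h1]; exact hzcomm
    refine ⟨le_antisymm ?_ (hle.trans (Cfsg.Lib.PGroups.commutator_le_frattini h.isTwo)), le_antisymm hcomm hle⟩
    refine Cfsg.Lib.PGroups.SpecialCoprime.frattini_le_of_elementary (p := 2) _ (fun g => ?_) hcomm
    rw [hcen, pow_two]
    refine hcentre _ (R.mul_mem g.2 g.2) fun r hr => ?_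
    have key : (g : S) * g * r * ((g : S) * g)⁻¹ = r := by
      rw [show (g : S) * g * r * ((g : S) * g)⁻¹ = g * (g * r * (g : S)⁻¹) * (g : S)⁻¹ by group]
      rcases hall g g.2 r hr with h1 | h1
      · rw [h1, h1]
      · rw [h1, ← mul_assoc, hzc g g.2, show z * (g : S) * r * (g : S)⁻¹ = z * (g * r * (g : S)⁻¹) by group, h1, hzz]
    exact (mul_inv_eq_iff_eq_mul.mp key).symm
  · have hset : ∀ g : R, g ∈ Subgroup.center R ↔ g ∈ ({1, ⟨z, hzR⟩} : Set R) := fun g => by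
      rw [Subgroup.mem_center_iff, Set.mem_insert_iff, Set.mem_singleton_iff]
      constructor
      · intro hg
        rcases hcentre g g.2 fun r hr => congrArg Subtype.val (hg ⟨r, hr⟩) with h1 | h1
        · exact Or.inl (Subtype.ext h1)
        · exact Or.inr (Subtype.ext h1)
      · rintro (rfl | rfl) r
        · simp
        · exact Subtype.ext (hzc r r.2)
    show Nat.card (Subgroup.center R : Set R) = 2
    rw [show (Subgroup.center R : Set R) = {1, ⟨z, hzR⟩} from Set.ext hset, Nat.card_coe_set_eq,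
      Set.ncard_pair (fun e => hz1 (congrArg Subtype.val e).symm)]

end Cfsg.Lib.CubicBlock
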