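import Cfsg.Agent.CubicBlock.Block

/-!
# A four group moved by an element with one cubic block

Its moved space is the sum of three lines permuted by `b`, of dimension three, and contains the image of `ρ b - 1`.
-/

set_option autoImplicit false
set_option linter.unusedSectionVars false

namespace Cfsg.Lib.CubicBlock

open Module

variable {S : Type*} [Group S] [Finite S] {E : Type*} [AddCommGroup E] [Module (ZMod 3) E] [Finite E]
  {ρ : Representation (ZMod 3) S E} {b q : S}

/-- `q` and its conjugate by `b` generate a four group moved by `b`. -/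
structure IsFour (b q : S) : Prop where
  sq : q * q = 1
  ne : b * q * b⁻¹ ≠ q
  comm : q * (b * q * b⁻¹) = (b * q * b⁻¹) * q
  prod : b * (b * q * b⁻¹) * b⁻¹ = q * (b * q * b⁻¹)

/-- The four group. -/
def fourSub (b q : S) : Subgroup S := Subgroup.closure {q, b * q * b⁻¹}

theorem IsFour.sq' (hq : IsFour b q) : (b * q * b⁻¹) * (b * q * b⁻¹) = 1 := by
  rw [show b * q * b⁻¹ * (b * q * b⁻¹) = b * (q * q) * b⁻¹ by group, hq.sq]; group

theorem IsFour.mem_iff (hq : IsFour b q) {g : S} :
    g ∈ fourSub b q ↔ g = 1 ∨ g = q ∨ g = b * q * b⁻¹ ∨ g = q * (b * q * b⁻¹) := by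
  set r := b * q * b⁻¹ with hr
  have h1 := hq.sq
  have h2 : r * r = 1 := hq.sq'
  have h3 : q * r = r * q := hq.comm
  have hqq : ∀ x, q * (q * x) = x := fun x => by rw [← mul_assoc, h1, one_mul]
  have hrr : ∀ x, r * (r * x) = x := fun x => by rw [← mul_assoc, h2, one_mul]
  have hrq : ∀ x, r * (q * x) = q * (r * x) := fun x => by rw [← mul_assoc, ← h3, mul_assoc]
  constructor
  · intro hg
    induction hg using Subgroup.closure_induction with
    | mem x hx => rcases hx with h | h <;> simp [show x = _ from h, hr]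
    | one => simp
    | mul x y _ _ hx hy =>
      rcases hx with hx | hx | hx | hx <;> rcases hy with hy | hy | hy | hy <;>
        rw [hx, hy] <;> simp [mul_assoc, h1, h2, ← h3, hqq, hrr, hrq]
    | inv x _ hx =>
      rcases hx with hx | hx | hx | hx <;> rw [hx]
      · simp
      · exact Or.inr (Or.inl (inv_eq_of_mul_eq_one_right h1))
      · exact Or.inr (Or.inr (Or.inl (inv_eq_of_mul_eq_one_right h2)))
      · refine Or.inr (Or.inr (Or.inr (inv_eq_of_mul_eq_one_right ?_)))
        simp [mul_assoc, hrq, h2, h1]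
  · rintro (hx | hx | hx | hx) <;> rw [hx]
    · exact one_mem _
    · exact Subgroup.subset_closure (by simp)
    · exact Subgroup.subset_closure (by simp [hr])
    · exact mul_mem (Subgroup.subset_closure (by simp)) (Subgroup.subset_closure (by simp [hr]))

theorem IsFour.commute (hq : IsFour b q) {g h : S} (hg : g ∈ fourSub b q) (hh : h ∈ fourSub b q) :
    g * h = h * g := by
  have h3 : Commute q (b * q * b⁻¹) := hq.comm
  rcases hq.mem_iff.mp hg with hg' | hg' | hg' | hg' <;> rcases hq.mem_iff.mp hh with hh' | hh' | hh' | hh' <;>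
    rw [hg', hh']
  all_goals first
    | exact Commute.one_left _
    | exact Commute.one_right _
    | exact Commute.refl _
    | exact h3
    | exact h3.symm
    | exact (Commute.refl q).mul_right h3
    | exact ((Commute.refl q).mul_right h3).symm
    | exact h3.symm.mul_right (Commute.refl _)
    | exact (h3.symm.mul_right (Commute.refl _)).symm

theorem IsFour.card_not_dvd (hq : IsFour b q) : ¬ 3 ∣ Nat.card (fourSub b q) := by
  intro h
  haveI : Fact (Nat.Prime 3) := ⟨Nat.prime_three⟩
  obtain ⟨g, hg⟩ := exists_prime_orderOf_dvd_card' 3 h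
  have hsq : (g : S) * g = 1 := by
    rcases hq.mem_iff.mp g.2 with h' | h' | h' | h' <;> rw [h']
    · simp
    · exact hq.sq
    · exact hq.sq'
    · calc q * (b * q * b⁻¹) * (q * (b * q * b⁻¹)) = q * q * ((b * q * b⁻¹) * (b * q * b⁻¹)) := by
            rw [show q * (b * q * b⁻¹) * (q * (b * q * b⁻¹)) = q * ((b * q * b⁻¹) * q) * (b * q * b⁻¹) by group,
              ← hq.comm]; group
        _ = 1 := by rw [hq.sq, hq.sq', one_mul]
  have h2 : g ^ 2 = 1 := Subtype.ext (by simpa [pow_two] using hsq)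
  have := orderOf_dvd_of_pow_eq_one h2
  rw [hg] at this
  exact absurd (Nat.le_of_dvd (by norm_num) this) (by norm_num)

theorem IsFour.conj_mem (hq : IsFour b q) (hb3 : b ^ 3 = 1) : b ∈ Subgroup.normalizer (fourSub b q : Set S) := by
  have hfwd : ∀ g ∈ fourSub b q, b * g * b⁻¹ ∈ fourSub b q := by
    intro g hg
    rcases hq.mem_iff.mp hg with hg' | hg' | hg' | hg' <;> rw [hg']
    · simp
    · exact hq.mem_iff.mpr (by simp)
    · exact hq.mem_iff.mpr (by rw [hq.prod]; simp)
    · rw [show b * (q * (b * q * b⁻¹)) * b⁻¹ = (b * q * b⁻¹) * (b * (b * q * b⁻¹) * b⁻¹) by group, hq.prod]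
      exact mul_mem (hq.mem_iff.mpr (by simp)) (hq.mem_iff.mpr (by simp))
  rw [Subgroup.mem_normalizer_iff]
  intro g
  refine ⟨hfwd g, fun h => ?_⟩
  have := hfwd _ (hfwd _ h)
  rwa [show b * (b * (b * g * b⁻¹) * b⁻¹) * b⁻¹ = b ^ 3 * g * (b ^ 3)⁻¹ by simp [pow_succ, mul_assoc, mul_inv_rev], hb3, one_mul, inv_one,
    mul_one] at this

theorem IsFour.not_centralized (hq : IsFour b q) : b ∉ Subgroup.centralizer (fourSub b q : Set S) := by
  intro h
  apply hq.ne
  rw [← Subgroup.mem_centralizer_iff.mp h q (hq.mem_iff.mpr (by simp)), mul_inv_cancel_right]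

/-- The line fixed by a member of the four group inside the moved space. -/
def line (ρ : Representation (ZMod 3) S E) (b q g : S) : Submodule (ZMod 3) E :=
  fixed ρ (Subgroup.zpowers g) ⊓ moved ρ (fourSub b q)

theorem mem_fixed_zpowers {g : S} {v : E} : v ∈ fixed ρ (Subgroup.zpowers g) ↔ ρ g v = v := by
  refine ⟨fun h => mem_fixed.mp h g (Subgroup.mem_zpowers g), fun h => mem_fixed.mpr fun x hx => ?_⟩
  obtain ⟨n, rfl⟩ := mem_powers_iff_mem_zpowers.mpr hx
  clear hx
  show ρ (g ^ n) v = v
  induction n with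
  | zero => simp
  | succ n ih => rw [pow_succ, rho_mul, h, ih]

/-- The three non-trivial members are negatives on each other's lines. -/
theorem IsFour.neg_on_line (hq : IsFour b q) {g h : S} (hg : g ∈ fourSub b q) (hh : h ∈ fourSub b q)
    (hgh : fourSub b q ≤ Subgroup.closure {g, h}) {v : E} (hv : v ∈ line ρ b q g) : ρ h v = -v := by
  obtain ⟨hv1, hv2⟩ := hv
  have hgv : ρ g v = v := mem_fixed_zpowers.mp hv1
  have hw : v + ρ h v ∈ fixed ρ (fourSub b q) := by
    rw [mem_fixed]
    intro x hx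
    have hx' := hgh hx
    induction hx' using Subgroup.closure_induction with
    | mem y hy =>
      rcases hy with hy | hy <;> rw [show y = _ from hy]
      · rw [map_add, hgv, ← rho_mul, hq.commute hg hh, rho_mul, hgv]
      · rw [map_add, ← rho_mul, show h * h = 1 by
          rcases hq.mem_iff.mp hh with h' | h' | h' | h' <;> rw [h']
          · simp
          · exact hq.sq
          · exact hq.sq'
          · calc q * (b * q * b⁻¹) * (q * (b * q * b⁻¹)) = q * ((b * q * b⁻¹) * q) * (b * q * b⁻¹) := by group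
              _ = q * q * ((b * q * b⁻¹) * (b * q * b⁻¹)) := by rw [← hq.comm]; group
              _ = 1 := by rw [hq.sq, hq.sq', one_mul], map_one, Module.End.one_apply, add_comm]
    | one => simp
    | mul x y hx' hy' ihx ihy => rw [rho_mul, ihy ((Subgroup.closure_le _).mpr (by
        rintro z (hz | hz) <;> rw [show z = _ from hz] <;> assumption) hy'), ihx ((Subgroup.closure_le _).mpr (by
        rintro z (hz | hz) <;> rw [show z = _ from hz] <;> assumption) hx')]
    | inv x hx' ihx =>
      have := ihx ((Subgroup.closure_le _).mpr (by rintro z (hz | hz) <;> rw [show z = _ from hz] <;> assumption) hx')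
      conv_lhs => rw [← this]
      exact rho_inv_cancel x _
  have hw' : v + ρ h v ∈ moved ρ (fourSub b q) := by
    refine (moved ρ _).add_mem hv2 ?_
    simpa using (moved ρ (fourSub b q)).add_mem (sub_mem_moved hh v) hv2
  have := (isCompl_fixed_moved (ρ := ρ) hq.card_not_dvd).disjoint.le_bot ⟨hw, hw'⟩
  rw [Submodule.mem_bot, add_comm] at this
  exact eq_neg_of_add_eq_zero_left this

/-- The three pairs generate. -/
theorem IsFour.generates (hq : IsFour b q) :
    fourSub b q ≤ Subgroup.closure {q, q * (b * q * b⁻¹)} ∧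
    fourSub b q ≤ Subgroup.closure {b * q * b⁻¹, q * (b * q * b⁻¹)} ∧
    fourSub b q ≤ Subgroup.closure {b * q * b⁻¹, q} := by
  refine ⟨?_, ?_, ?_⟩ <;> refine (Subgroup.closure_le _).mpr ?_ <;> rintro z (hz | hz) <;>
    rw [show z = _ from hz, SetLike.mem_coe]
  · exact Subgroup.subset_closure (by simp)
  · have h1 : q⁻¹ * (q * (b * q * b⁻¹)) ∈ Subgroup.closure {q, q * (b * q * b⁻¹)} :=
      mul_mem (inv_mem (Subgroup.subset_closure (by simp))) (Subgroup.subset_closure (by simp))
    rwa [inv_mul_cancel_left] at h1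
  · have h1 : q * (b * q * b⁻¹) * (b * q * b⁻¹)⁻¹ ∈ Subgroup.closure {b * q * b⁻¹, q * (b * q * b⁻¹)} :=
      mul_mem (Subgroup.subset_closure (by simp)) (inv_mem (Subgroup.subset_closure (by simp)))
    rwa [mul_inv_cancel_right] at h1
  · exact Subgroup.subset_closure (by simp)
  · exact Subgroup.subset_closure (by simp)
  · exact Subgroup.subset_closure (by simp)

/-- Every vector of the moved space splits into the three lines. -/
theorem IsFour.decompose (hq : IsFour b q) {v : E} (hv : v ∈ moved ρ (fourSub b q)) :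
    v + ρ q v ∈ line ρ b q q ∧ v + ρ (b * q * b⁻¹) v ∈ line ρ b q (b * q * b⁻¹) ∧
    v + ρ (q * (b * q * b⁻¹)) v ∈ line ρ b q (q * (b * q * b⁻¹)) ∧
    (2 : ℕ) • v = (v + ρ q v) + (v + ρ (b * q * b⁻¹) v) + (v + ρ (q * (b * q * b⁻¹)) v) := by
  have hmem : ∀ g ∈ fourSub b q, ρ g v ∈ moved ρ (fourSub b q) := fun g hg => by
    simpa using (moved ρ (fourSub b q)).add_mem (sub_mem_moved hg v) hv
  have key : ∀ g ∈ fourSub b q, g * g = 1 → v + ρ g v ∈ line ρ b q g := fun g hg hgg => by
    refine ⟨mem_fixed_zpowers.mpr ?_, (moved ρ _).add_mem hv (hmem g hg)⟩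
    rw [map_add, ← rho_mul, hgg, map_one, Module.End.one_apply, add_comm]
  have m1 : q ∈ fourSub b q := hq.mem_iff.mpr (by simp)
  have m2 : b * q * b⁻¹ ∈ fourSub b q := hq.mem_iff.mpr (by simp)
  have hh : q * (b * q * b⁻¹) * (q * (b * q * b⁻¹)) = 1 := by
    calc q * (b * q * b⁻¹) * (q * (b * q * b⁻¹)) = q * ((b * q * b⁻¹) * q) * (b * q * b⁻¹) := by group
      _ = q * q * ((b * q * b⁻¹) * (b * q * b⁻¹)) := by rw [← hq.comm]; group
      _ = 1 := by rw [hq.sq, hq.sq', one_mul]
  refine ⟨key _ m1 hq.sq, key _ m2 hq.sq', key _ (mul_mem m1 m2) hh, ?_⟩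
  have hs : v + ρ q v + ρ (b * q * b⁻¹) v + ρ (q * (b * q * b⁻¹)) v ∈ fixed ρ (fourSub b q) := by
    rw [mem_fixed]
    intro g hg
    rcases hq.mem_iff.mp hg with hg' | hg' | hg' | hg' <;> rw [hg']
    · simp
    · simp only [map_add, ← rho_mul, hq.sq, map_one, Module.End.one_apply,
        show q * (q * (b * q * b⁻¹)) = b * q * b⁻¹ by rw [← mul_assoc, hq.sq, one_mul]]
      abel
    · simp only [map_add, ← rho_mul, hq.sq', map_one, Module.End.one_apply,
        show b * q * b⁻¹ * q = q * (b * q * b⁻¹) from hq.comm.symm,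
        show b * q * b⁻¹ * (q * (b * q * b⁻¹)) = q by rw [hq.comm, ← mul_assoc, hq.sq', one_mul]]
      abel
    · simp only [map_add, ← rho_mul, hh, map_one, Module.End.one_apply,
        show q * (b * q * b⁻¹) * q = b * q * b⁻¹ by rw [mul_assoc, ← hq.comm, ← mul_assoc, hq.sq, one_mul],
        show q * (b * q * b⁻¹) * (b * q * b⁻¹) = q by rw [mul_assoc, hq.sq', mul_one]]
      abel
  have hs' : v + ρ q v + ρ (b * q * b⁻¹) v + ρ (q * (b * q * b⁻¹)) v ∈ moved ρ (fourSub b q) :=
    (moved ρ _).add_mem ((moved ρ _).add_mem ((moved ρ _).add_mem hv (hmem _ m1)) (hmem _ m2))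
      (hmem _ (mul_mem m1 m2))
  have h0 := (isCompl_fixed_moved (ρ := ρ) hq.card_not_dvd).disjoint.le_bot ⟨hs, hs'⟩
  rw [Submodule.mem_bot] at h0
  linear_combination (norm := module) -h0

theorem IsFour.map_line (hq : IsFour b q) (hb3 : b ^ 3 = 1) {g : S} {v : E} (hv : v ∈ line ρ b q g) :
    ρ b v ∈ line ρ b q (b * g * b⁻¹) := by
  refine ⟨mem_fixed_zpowers.mpr ?_, map_moved (normal_conj_inv (hq.conj_mem hb3)).1 hv.2⟩
  rw [← rho_mul, inv_mul_cancel_right, rho_mul, mem_fixed_zpowers.mp hv.1]

/-- The main fact: the moved space has dimension three, the lines are lines, and `ρ b - 1` maps into it. -/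
theorem IsFour.space (hb : IsBlock ρ b) (hq : IsFour b q) :
    (∀ v ∈ fixed ρ (fourSub b q), ρ b v = v) ∧
    LinearMap.range (nil ρ b) ≤ moved ρ (fourSub b q) ∧
    finrank (ZMod 3) (moved ρ (fourSub b q)) = 3 ∧
    finrank (ZMod 3) (line ρ b q q) = 1 := by
  classical
  obtain ⟨hfix, hrange⟩ := hb.fixed_moved hq.card_not_dvd (hq.conj_mem hb.cube) hq.not_centralized
  obtain ⟨g1, g2, g3⟩ := hq.generates
  set r := b * q * b⁻¹ with hr
  set W := moved ρ (fourSub b q) with hW
  have m1 : q ∈ fourSub b q := hq.mem_iff.mpr (by simp)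
  have m2 : r ∈ fourSub b q := hq.mem_iff.mpr (by simp [hr])
  set L1 := line ρ b q q
  set L2 := line ρ b q r
  set L3 := line ρ b q (q * r)
  -- `ρ b - 1` is injective on two lines
  have key : ∀ v ∈ L1, ∀ w ∈ L2, ρ b (v + w) = v + w → v = 0 ∧ w = 0 := by
    intro v hv w hw he
    have hbv : ρ b v ∈ L2 := hq.map_line hb.cube hv
    have hbw : ρ b w ∈ L3 := by
      have := hq.map_line hb.cube hw
      rwa [hq.prod] at this
    have e1 := congrArg (fun x => x + ρ q x) he
    simp only [map_add, mem_fixed_zpowers.mp hv.1, hq.neg_on_line m2 m1 g3 hw] at e1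
    rw [hq.neg_on_line m2 m1 g3 hbv] at e1
    have hneg : ρ q (ρ b w) = -ρ b w :=
      hq.neg_on_line (mul_mem m1 m2) m1 (by rw [Set.pair_comm]; exact g1) hbw
    rw [hneg] at e1
    have h3 := three_smul v
    have hv0 : v = 0 := by linear_combination (norm := module) e1 + h3
    refine ⟨hv0, ?_⟩
    rw [hv0, zero_add] at he
    have := hq.neg_on_line (mul_mem m1 m2) m2 (by rw [Set.pair_comm]; exact g2) hbw
    rw [he, mem_fixed_zpowers.mp hw.1] at this
    have h3' := three_smul w
    linear_combination (norm := module) h3' - this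
  have hdis : L1 ⊓ L2 = ⊥ := by
    rw [eq_bot_iff]
    rintro v ⟨hv, hv'⟩
    have := hq.neg_on_line m2 m1 g3 hv'
    rw [mem_fixed_zpowers.mp hv.1] at this
    rw [Submodule.mem_bot]
    have h3' := three_smul v
    linear_combination (norm := module) h3' - this
  have hinjB : ∀ v ∈ L1, ρ b v = 0 → v = 0 := fun v _ h => by
    rw [← rho_inv_cancel (ρ := ρ) b v, h, map_zero]
  have hL2 : finrank (ZMod 3) L1 ≤ finrank (ZMod 3) L2 := by
    refine LinearMap.finrank_le_finrank_of_injective
      (f := (ρ b).restrict (fun v (hv : v ∈ L1) => hq.map_line hb.cube hv)) ?_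
    intro x y hxy
    have := congrArg (ρ b⁻¹) (congrArg Subtype.val hxy)
    simp only [LinearMap.restrict_coe_apply, rho_inv_cancel] at this
    exact Subtype.ext this
  have hL3 : finrank (ZMod 3) L3 ≤ finrank (ZMod 3) L1 := by
    have hm : ∀ v ∈ L3, ρ b v ∈ L1 := fun v hv => by
      have := hq.map_line hb.cube hv
      rwa [show b * (q * r) * b⁻¹ = (b * q * b⁻¹) * (b * r * b⁻¹) by group, hq.prod, ← hr, hq.comm,
        ← mul_assoc, hq.sq', one_mul] at this
    refine LinearMap.finrank_le_finrank_of_injective (f := (ρ b).restrict hm) ?_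
    intro x y hxy
    have := congrArg (ρ b⁻¹) (congrArg Subtype.val hxy)
    simp only [LinearMap.restrict_coe_apply, rho_inv_cancel] at this
    exact Subtype.ext this
  have hL2' : finrank (ZMod 3) L2 ≤ finrank (ZMod 3) L3 := by
    have hm : ∀ v ∈ L2, ρ b v ∈ L3 := fun v hv => by
      have := hq.map_line hb.cube hv
      rwa [hq.prod] at this
    refine LinearMap.finrank_le_finrank_of_injective (f := (ρ b).restrict hm) ?_
    intro x y hxy
    have := congrArg (ρ b⁻¹) (congrArg Subtype.val hxy)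
    simp only [LinearMap.restrict_coe_apply, rho_inv_cancel] at this
    exact Subtype.ext this
  have hle2 : finrank (ZMod 3) ↥(L1 ⊔ L2) ≤ 2 := by
    rw [← hb.rank]
    refine LinearMap.finrank_le_finrank_of_injective
      (f := (nil ρ b).restrict (p := L1 ⊔ L2) (q := LinearMap.range (nil ρ b)) (fun v _ => ⟨v, rfl⟩)) ?_
    rw [← LinearMap.ker_eq_bot, eq_bot_iff]
    rintro ⟨x, hx⟩ hk
    obtain ⟨v, hv, w, hw, rfl⟩ := Submodule.mem_sup.mp hx
    have he : ρ b (v + w) = v + w := sub_eq_zero.mp (congrArg Subtype.val (LinearMap.mem_ker.mp hk))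
    obtain ⟨rfl, rfl⟩ := key v hv w hw he
    simp
  have hsum := Submodule.finrank_sup_add_finrank_inf_eq L1 L2
  rw [hdis, finrank_bot] at hsum
  have hWle : W ≤ L1 ⊔ L2 ⊔ L3 := fun v hv => by
    obtain ⟨a1, a2, a3, e⟩ := hq.decompose hv
    have e' : v = -((v + ρ q v) + (v + ρ r v) + (v + ρ (q * r) v)) := by
      rw [← e]
      linear_combination (norm := module) three_smul v
    rw [e']
    exact neg_mem (add_mem (add_mem (Submodule.mem_sup_left (Submodule.mem_sup_left a1))
      (Submodule.mem_sup_left (Submodule.mem_sup_right a2))) (Submodule.mem_sup_right a3))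
  have h3 := Submodule.finrank_mono hWle
  have h4 := Submodule.finrank_add_le_finrank_add_finrank (L1 ⊔ L2) L3
  -- the image is a proper subspace of `W`
  have hprop : LinearMap.range (nil ρ b) < W := by
    refine lt_of_le_of_ne hrange fun he => ?_
    obtain ⟨v, hv⟩ := hb.sq
    have hnW : ∀ w ∈ W, ∃ x ∈ W, nil ρ b x = w := fun w hw => by
      rw [← he] at hw
      obtain ⟨y, hy⟩ := hw
      obtain ⟨u, hu, x, hx, rfl⟩ := Submodule.mem_sup.mp
        (show y ∈ fixed ρ (fourSub b q) ⊔ W by rw [(isCompl_fixed_moved hq.card_not_dvd).sup_eq_top]; trivial)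
      refine ⟨x, hx, ?_⟩
      rw [← hy, map_add, nil_apply b u, hfix u hu, sub_self, zero_add]
    apply hv
    obtain ⟨x, hx, hxe⟩ := hnW _ (hrange ⟨v, rfl⟩)
    obtain ⟨y, hy, hye⟩ := hnW _ hx
    rw [← hxe, ← hye, nil_cube hb.cube]
  have h5 := Submodule.finrank_lt_finrank_of_lt hprop
  rw [hb.rank] at h5
  refine ⟨hfix, hrange, ?_, ?_⟩ <;> show finrank (ZMod 3) _ = _ <;> omega

end Cfsg.Lib.CubicBlock
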