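import Mathlib

/-!
# Linear algebra for an element of order three with one cubic block

A representation over the field with three elements, the subspaces moved and fixed by a subgroup, and
elementary facts on an element `b` with `(b - 1)² ≠ 0` and `b - 1` of rank two.
-/

set_option autoImplicit false
set_option linter.unusedSectionVars false

namespace Cfsg.Lib.CubicBlock

open Module

variable {S : Type*} [Group S] [Finite S] {E : Type*} [AddCommGroup E] [Module (ZMod 3) E] [Finite E]
  (ρ : Representation (ZMod 3) S E)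

/-- The fixed space of a subgroup. -/
def fixed (H : Subgroup S) : Submodule (ZMod 3) E :=
  ⨅ h : H, LinearMap.ker (ρ (h : S) - 1)

/-- The space moved by a subgroup. -/
def moved (H : Subgroup S) : Submodule (ZMod 3) E :=
  ⨆ h : H, LinearMap.range (ρ (h : S) - 1)

variable {ρ}

theorem mem_fixed {H : Subgroup S} {v : E} : v ∈ fixed ρ H ↔ ∀ h ∈ H, ρ h v = v := by
  simp [fixed, sub_eq_zero]

theorem sub_mem_moved {H : Subgroup S} {h : S} (hh : h ∈ H) (v : E) : ρ h v - v ∈ moved ρ H :=
  Submodule.mem_iSup_of_mem ⟨h, hh⟩ ⟨v, by simp⟩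

theorem moved_le {H : Subgroup S} {U : Submodule (ZMod 3) E} (h : ∀ g ∈ H, ∀ v : E, ρ g v - v ∈ U) :
    moved ρ H ≤ U := iSup_le fun g => by
  rintro w ⟨v, rfl⟩
  simpa using h g g.2 v

theorem rho_mul (g h : S) (v : E) : ρ (g * h) v = ρ g (ρ h v) := by rw [map_mul]; rfl

theorem rho_inv_cancel (g : S) (v : E) : ρ g⁻¹ (ρ g v) = v := by
  rw [← rho_mul, inv_mul_cancel, map_one]; rfl

theorem rho_cancel_inv (g : S) (v : E) : ρ g (ρ g⁻¹ v) = v := by
  rw [← rho_mul, mul_inv_cancel, map_one]; rfl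

variable (ρ) in
/-- The elements moving every vector inside `U`. -/
def moveSub (U : Submodule (ZMod 3) E) : Subgroup S :=
  have hone : ∀ v : E, ρ 1 v - v ∈ U := fun v => by simp
  have hmul : ∀ g h : S, (∀ v : E, ρ g v - v ∈ U) → (∀ v : E, ρ h v - v ∈ U) → ∀ v : E, ρ (g * h) v - v ∈ U :=
    fun g h hg hh v => by
      have := U.add_mem (hg (ρ h v)) (hh v)
      rwa [rho_mul, ← sub_add_sub_cancel _ (ρ h v)]
  { carrier := {g | ∀ v : E, ρ g v - v ∈ U}
    one_mem' := hone
    mul_mem' := fun hg hh => hmul _ _ hg hh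
    inv_mem' := fun {g} hg => by
      intro v
      have hpow : ∀ n : ℕ, ∀ v : E, ρ (g ^ n) v - v ∈ U := by
        intro n
        induction n with
        | zero => simpa using hone
        | succ n ih => rw [pow_succ]; exact hmul _ _ ih hg
      have hg' : g⁻¹ = g ^ (orderOf g - 1) := by
        rw [inv_eq_iff_mul_eq_one, ← pow_succ', Nat.sub_add_cancel (orderOf_pos g), pow_orderOf_eq_one]
      rw [hg']
      exact hpow _ v }

theorem mem_moveSub {U : Submodule (ZMod 3) E} {g : S} : g ∈ moveSub ρ U ↔ ∀ v : E, ρ g v - v ∈ U := Iff.rfl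

theorem moved_le_of_le {H : Subgroup S} {U : Submodule (ZMod 3) E} (h : H ≤ moveSub ρ U) : moved ρ H ≤ U :=
  moved_le fun g hg => h hg

theorem le_moveSub_moved (H : Subgroup S) : H ≤ moveSub ρ (moved ρ H) := fun _ hg => sub_mem_moved hg

/-- An element preserves the fixed space of a subgroup it normalises. -/
theorem map_fixed {H : Subgroup S} {g : S} (hg : ∀ h ∈ H, g⁻¹ * h * g ∈ H) {v : E} (hv : v ∈ fixed ρ H) :
    ρ g v ∈ fixed ρ H := by
  rw [mem_fixed] at hv ⊢
  intro h hh
  have := congrArg (ρ g) (hv _ (hg h hh))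
  rwa [← rho_mul, mul_assoc, mul_inv_cancel_left, rho_mul] at this

theorem map_moved {H : Subgroup S} {g : S} (hg : ∀ h ∈ H, g * h * g⁻¹ ∈ H) {v : E} (hv : v ∈ moved ρ H) :
    ρ g v ∈ moved ρ H := by
  suffices h : (moved ρ H).map (ρ g) ≤ moved ρ H from h ⟨v, hv, rfl⟩
  rw [Submodule.map_le_iff_le_comap]
  refine moved_le fun h hh w => ?_
  show ρ g (ρ h w - w) ∈ moved ρ H
  have := sub_mem_moved (ρ := ρ) (hg h hh) (ρ g w)
  rwa [← rho_mul, inv_mul_cancel_right, rho_mul, ← map_sub] at this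

theorem normal_conj_inv {H : Subgroup S} {g : S} (hg : g ∈ Subgroup.normalizer (H : Set S)) :
    (∀ h ∈ H, g * h * g⁻¹ ∈ H) ∧ ∀ h ∈ H, g⁻¹ * h * g ∈ H := by
  refine ⟨fun h hh => (Subgroup.mem_normalizer_iff.mp hg h).mp hh, fun h hh => ?_⟩
  have := (Subgroup.mem_normalizer_iff.mp (inv_mem hg) h).mp hh
  simpa using this

/-- For a subgroup of order prime to three the fixed space and the moved space are complements. -/
theorem isCompl_fixed_moved {H : Subgroup S} (hH : ¬ 3 ∣ Nat.card H) :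
    IsCompl (fixed ρ H) (moved ρ H) := by
  classical
  haveI := Fintype.ofFinite H
  have hn : ((Nat.card H : ZMod 3)) ≠ 0 := by
    rwa [Ne, ZMod.natCast_eq_zero_iff]
  set avg : E →ₗ[ZMod 3] E := ∑ h : H, ρ (h : S) with havg
  have hfix : ∀ v ∈ fixed ρ H, avg v = (Nat.card H : ZMod 3) • v := fun v hv => by
    rw [havg, LinearMap.sum_apply, Finset.sum_congr rfl fun (h : H) _ => mem_fixed.mp hv (h : S) h.2]
    simp [Nat.card_eq_fintype_card, Nat.cast_smul_eq_nsmul]
  have hmov : moved ρ H ≤ LinearMap.ker avg := moved_le fun g hg v => by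
    rw [LinearMap.mem_ker, map_sub, sub_eq_zero, havg, LinearMap.sum_apply, LinearMap.sum_apply]
    exact Fintype.sum_equiv (Equiv.mulRight ⟨g, hg⟩) _ _ fun h => by simp [rho_mul]
  refine IsCompl.of_eq ?_ ?_
  · rw [eq_bot_iff]
    rintro v ⟨hv, hv'⟩
    have h0 : avg v = 0 := hmov hv'
    rw [hfix v hv, smul_eq_zero] at h0
    exact h0.resolve_left hn
  · rw [eq_top_iff]
    intro v _
    have e : v = (Nat.card H : ZMod 3)⁻¹ • avg v + (v - (Nat.card H : ZMod 3)⁻¹ • avg v) := by abel
    rw [e]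
    refine Submodule.add_mem_sup (Submodule.smul_mem _ _ (mem_fixed.mpr fun g hg => ?_)) ?_
    · rw [havg, LinearMap.sum_apply, map_sum]
      exact Fintype.sum_equiv (Equiv.mulLeft ⟨g, hg⟩) _ _ fun h => by simp [rho_mul]
    · have hv : v = (Nat.card H : ZMod 3)⁻¹ • ∑ _h : H, v := by
        rw [Finset.sum_const, Finset.card_univ, ← Nat.cast_smul_eq_nsmul (ZMod 3), smul_smul,
          ← Nat.card_eq_fintype_card, inv_mul_cancel₀ hn, one_smul]
      have e2 : v - (Nat.card H : ZMod 3)⁻¹ • avg v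
          = -((Nat.card H : ZMod 3)⁻¹ • ∑ h : H, (ρ (h : S) v - v)) := by
        rw [Finset.sum_sub_distrib, smul_sub, ← hv, havg, LinearMap.sum_apply, neg_sub]
      rw [e2]
      exact (moved ρ H).neg_mem ((moved ρ H).smul_mem _ ((moved ρ H).sum_mem fun h _ => sub_mem_moved h.2 v))

/-- A subgroup of order prime to three moving everything into `U` has order dividing that of `GL(U)`. -/
theorem card_dvd_of_le_moveSub (hinj : Function.Injective ρ) {H : Subgroup S} {U : Submodule (ZMod 3) E}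
    (hH : ¬ 3 ∣ Nat.card H) (hle : H ≤ moveSub ρ U) :
    Nat.card H ∣ ∏ i : Fin (finrank (ZMod 3) U), (3 ^ finrank (ZMod 3) U - 3 ^ (i : ℕ)) := by
  have hinv : ∀ h : H, ∀ v ∈ U, ρ (h : S) v ∈ U := fun h v hv => by
    simpa using U.add_mem (hle h.2 v) hv
  let f : H →* (Module.End (ZMod 3) U) :=
    { toFun := fun h => (ρ (h : S)).restrict (hinv h)
      map_one' := by ext v; simp [LinearMap.restrict_coe_apply]
      map_mul' := fun g h => by ext v; simp [LinearMap.restrict_coe_apply, rho_mul] }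
  let F : H →* (Module.End (ZMod 3) U)ˣ := f.toHomUnits
  have hF : Function.Injective F := by
    rw [← MonoidHom.ker_eq_bot_iff, eq_bot_iff]
    intro h hh
    have hfh : f h = 1 := congrArg Units.val (MonoidHom.mem_ker.mp hh)
    have hU : ∀ v ∈ U, ρ (h : S) v = v := fun v hv =>
      congrArg Subtype.val (LinearMap.congr_fun hfh ⟨v, hv⟩)
    have h3 : (h : S) ^ 3 = 1 := by
      apply hinj
      ext v
      have h1 := hU _ (hle h.2 v)
      rw [map_sub, sub_eq_sub_iff_add_eq_add] at h1
      have e1 : ρ (h : S) (ρ (h : S) v) = ρ (h : S) v + (ρ (h : S) v - v) := by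
        rw [← sub_eq_iff_eq_add', ← map_sub, hU _ (hle h.2 v)]
      simp only [pow_succ, pow_zero, one_mul, rho_mul, map_one, Module.End.one_apply]
      rw [e1, map_add, hU _ (hle h.2 v), e1]
      have h30 : (3 : ZMod 3) • (ρ (h : S) v - v) = 0 := by
        rw [show (3 : ZMod 3) = 0 by decide, zero_smul]
      rw [ofNat_smul_eq_nsmul] at h30
      linear_combination (norm := module) h30
    have h1 : orderOf h ∣ 3 := orderOf_dvd_of_pow_eq_one (Subtype.ext (by simpa using h3))
    rcases (Nat.dvd_prime Nat.prime_three).mp h1 with h' | h'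
    · exact Subgroup.mem_bot.mpr (orderOf_eq_one_iff.mp h')
    · exact absurd (h' ▸ orderOf_dvd_natCard h) hH
  let b := Module.finBasis (ZMod 3) U
  let e : (Module.End (ZMod 3) U)ˣ ≃* GL (Fin (finrank (ZMod 3) U)) (ZMod 3) :=
    Units.mapEquiv (algEquivMatrix b).toMulEquiv
  have := Subgroup.card_dvd_of_injective (e.toMonoidHom.comp F) (e.injective.comp hF)
  rwa [Matrix.card_GL_field, ZMod.card] at this

end Cfsg.Lib.CubicBlock
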