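import Cfsg.Agent.CubicBlock.Extra

/-!
# Assembling the theorem on cubic blocks
-/

set_option autoImplicit false
set_option linter.unusedSectionVars false

namespace Cfsg.Lib.CubicBlock

open Module

variable {S : Type*} [Group S] [Finite S] {E : Type*} [AddCommGroup E] [Module (ZMod 3) E] [Finite E]
  {ρ : Representation (ZMod 3) S E} {b q : S} {R : Subgroup S}

/-- An indecomposable three-dimensional block gives `IsBlock`. -/
theorem isBlock_of_split (hinj : Function.Injective ρ) (h3 : b ^ 3 = 1) (E₀ E₁ : Submodule (ZMod 3) E)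
    (hE01' : E₀ ⊔ E₁ = ⊤) (hE1 : ∀ v ∈ E₁, ρ b v = v) (hE0inv : ∀ v ∈ E₀, ρ b v ∈ E₀) (hE0 : Nat.card E₀ = 27)
    (hind : ∃ v ∈ E₀, ρ b (ρ b v - v) - (ρ b v - v) ≠ 0) : IsBlock ρ b := by
  obtain ⟨v₀, hv₀, hne⟩ := hind
  have hmap : ∀ v ∈ E₀, nil ρ b v ∈ E₀ := fun v hv => E₀.sub_mem (hE0inv v hv) hv
  have hrange : LinearMap.range (nil ρ b) = E₀.map (nil ρ b) := by
    refine le_antisymm ?_ (LinearMap.map_le_range)
    rintro _ ⟨v, rfl⟩
    obtain ⟨a, ha, c, hc, rfl⟩ := Submodule.mem_sup.mp (show v ∈ E₀ ⊔ E₁ by rw [hE01']; trivial)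
    refine ⟨a, ha, ?_⟩
    rw [map_add, nil_apply b c, hE1 c hc, sub_self, add_zero]
  have hdim : finrank (ZMod 3) E₀ = 3 := by
    have h := Module.natCard_eq_pow_finrank (K := ZMod 3) (V := E₀)
    rw [hE0, Nat.card_zmod] at h
    exact Nat.pow_right_injective (show 2 ≤ 3 by norm_num) (show 3 ^ finrank (ZMod 3) E₀ = 3 ^ 3 by rw [← h])
  have hge : 2 ≤ finrank (ZMod 3) (E₀.map (nil ρ b)) := by
    by_contra hlt
    exact hne (nil_sq_eq_zero h3 hmap (by omega) hv₀)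
  have hle : finrank (ZMod 3) (E₀.map (nil ρ b)) ≤ 2 := by
    have hlt : E₀.map (nil ρ b) < E₀ := by
      refine lt_of_le_of_ne (by rintro _ ⟨v, hv, rfl⟩; exact hmap v hv) fun e => ?_
      obtain ⟨a, ha, ea⟩ := e.ge hv₀
      obtain ⟨a', ha', ea'⟩ := e.ge ha
      exact hne (show nil ρ b (nil ρ b v₀) = 0 by rw [← ea, ← ea', nil_cube h3])
    have := Submodule.finrank_lt_finrank_of_lt hlt
    omega
  exact ⟨hinj, h3, by rw [hrange]; omega, v₀, hne⟩

/-- A four group normalised but not centralised by an element of order three. -/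
theorem exists_isFour (h3 : b ^ 3 = 1) (Q : Subgroup S) (hQ : Cfsg.IsElementaryAbelian 2 Q) (hQ4 : Nat.card Q = 4)
    (hbQ : b ∈ Subgroup.normalizer (Q : Set S)) (hbQ' : b ∉ Subgroup.centralizer (Q : Set S)) :
    ∃ q, IsFour b q := by
  obtain ⟨q, hq, hne⟩ : ∃ q ∈ Q, b * q * b⁻¹ ≠ q := by
    by_contra hall
    push Not at hall
    exact hbQ' (Subgroup.mem_centralizer_iff.mpr fun g hg => (mul_inv_eq_iff_eq_mul.mp (hall g hg)).symm)
  have hsq : ∀ g ∈ Q, g * g = 1 := fun g hg => by rw [← pow_two]; exact hQ.2 g hg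
  have hcomm : ∀ g ∈ Q, ∀ g' ∈ Q, g * g' = g' * g := fun g hg g' hg' =>
    congrArg Subtype.val (hQ.1.is_comm.comm ⟨g, hg⟩ ⟨g', hg'⟩)
  set r := b * q * b⁻¹ with hr
  have hrQ : r ∈ Q := (normal_conj_inv hbQ).1 q hq
  set x := b * r * b⁻¹ with hx
  have hxQ : x ∈ Q := (normal_conj_inv hbQ).1 r hrQ
  refine ⟨q, hsq q hq, hne, hcomm q hq r hrQ, ?_⟩
  show x = q * r
  have hq1 : q ≠ 1 := fun e => hne (by rw [hr, e]; group)
  have hr1 : r ≠ 1 := fun e => hq1 (by
    calc q = b⁻¹ * r * b := by rw [hr]; group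
      _ = 1 := by rw [e]; group)
  have hqr : q * r ≠ 1 := fun e => hne (by
    calc r = q * q * r := by rw [hsq q hq, one_mul]
      _ = q := by rw [mul_assoc, e, mul_one])
  have hsub : ({1, q, r, q * r} : Set S) ⊆ (Q : Set S) := by
    rintro g (rfl | rfl | rfl | rfl)
    exacts [Q.one_mem, hq, hrQ, Q.mul_mem hq hrQ]
  have hn : ({1, q, r, q * r} : Set S).ncard = 4 := by
    rw [Set.ncard_insert_of_notMem (by
      simp only [Set.mem_insert_iff, Set.mem_singleton_iff, not_or]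
      exact ⟨hq1.symm, hr1.symm, hqr.symm⟩),
      Set.ncard_insert_of_notMem (by
      simp only [Set.mem_insert_iff, Set.mem_singleton_iff, not_or]
      exact ⟨hne.symm, fun e => hr1 (left_eq_mul.mp e)⟩),
      Set.ncard_pair (fun e => hq1 (right_eq_mul.mp e))]
  have hall : ({1, q, r, q * r} : Set S) = (Q : Set S) :=
    Set.eq_of_subset_of_ncard_le hsub (by rw [hn, ← Nat.card_coe_set_eq]; exact hQ4.le)
  have hxmem : x ∈ ({1, q, r, q * r} : Set S) := by rw [hall]; exact hxQ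
  rcases hxmem with hx1 | hx1 | hx1 | hx1
  · exact absurd (by
      calc r = b⁻¹ * x * b := by rw [hx]; group
        _ = 1 := by rw [hx1]; group) hr1
  · refine absurd ?_ hne
    calc r = b * q * b⁻¹ := hr
      _ = b * x * b⁻¹ := by rw [hx1]
      _ = b * b * b * q * (b * b * b)⁻¹ := by rw [hx, hr]; group
      _ = q := by rw [show b * b * b = b ^ 3 by rw [pow_succ, pow_two], h3]; group
  · refine absurd ?_ hne
    calc r = b⁻¹ * x * b := by rw [hx]; group
      _ = b⁻¹ * r * b := by rw [hx1]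
      _ = q := by rw [hr]; group
  · exact hx1

theorem IsFour.card (hp : IsFour b q) : Nat.card (fourSub b q) = 4 := by
  set r := b * q * b⁻¹ with hr
  have hset : (fourSub b q : Set S) = {1, q, r, q * r} := Set.ext fun g => by
    rw [SetLike.mem_coe, hp.mem_iff]; simp [hr]
  have hq1 : q ≠ 1 := fun e => hp.ne (by rw [e]; group)
  have hr1 : r ≠ 1 := fun e => hq1 (by
    calc q = b⁻¹ * r * b := by rw [hr]; group
      _ = 1 := by rw [e]; group)
  have hne : r ≠ q := hp.ne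
  have hqr : q * r ≠ 1 := fun e => hne (by
    calc r = q * q * r := by rw [hp.sq, one_mul]
      _ = q := by rw [mul_assoc, e, mul_one])
  show Nat.card (fourSub b q : Set S) = 4
  rw [hset, Nat.card_coe_set_eq, Set.ncard_insert_of_notMem (by
    simp only [Set.mem_insert_iff, Set.mem_singleton_iff, not_or]
    exact ⟨hq1.symm, hr1.symm, hqr.symm⟩),
    Set.ncard_insert_of_notMem (by
    simp only [Set.mem_insert_iff, Set.mem_singleton_iff, not_or]
    exact ⟨hne.symm, fun e => hr1 (left_eq_mul.mp e)⟩),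
    Set.ncard_pair (fun e => hq1 (right_eq_mul.mp e))]

theorem IsFour.elementary (hp : IsFour b q) : Cfsg.IsElementaryAbelian 2 (fourSub b q) := by
  refine ⟨⟨⟨fun g g' => Subtype.ext (hp.commute g.2 g'.2)⟩⟩, fun g hg => ?_⟩
  rw [pow_two]
  rcases hp.mem_iff.mp hg with h | h | h | h <;> rw [h]
  · simp
  · exact hp.sq
  · exact hp.sq'
  · calc q * (b * q * b⁻¹) * (q * (b * q * b⁻¹)) = q * ((b * q * b⁻¹) * q) * (b * q * b⁻¹) := by group
      _ = q * q * ((b * q * b⁻¹) * (b * q * b⁻¹)) := by rw [← hp.comm]; group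
      _ = 1 := by rw [hp.sq, hp.sq', one_mul]

/-- The structure of `R` and of the module. -/
theorem Setting.conclusion (h : Setting ρ b q R) :
    ((Cfsg.IsElementaryAbelian 2 R ∧ Nat.card R = 4) ∨
      (Cfsg.IsExtraspecial 2 R ∧ Nat.card R = 32 ∧
        ∃ A : Subgroup S, A ≤ R ∧ Cfsg.IsElementaryAbelian 2 A ∧ Nat.card A = 8)) ∧
    ∃ F₀ F₁ : Submodule (ZMod 3) E, F₀ ⊓ F₁ = ⊥ ∧ F₀ ⊔ F₁ = ⊤ ∧
      (∀ r ∈ R, ∀ v ∈ F₁, ρ r v = v) ∧ (∀ r ∈ R ⊔ Subgroup.zpowers b, ∀ v ∈ F₀, ρ r v ∈ F₀) ∧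
      (∀ r ∈ R ⊔ Subgroup.zpowers b, (∀ v ∈ F₀, ρ r v = v) → r = 1) ∧
      (∀ N : Submodule (ZMod 3) E, N ≤ F₀ → (∀ r ∈ R ⊔ Subgroup.zpowers b, ∀ v ∈ N, ρ r v ∈ N) →
        N = ⊥ ∨ N = F₀) := by
  have hcompl := isCompl_fixed_moved (ρ := ρ) h.not_dvd
  refine ⟨?_, moved ρ R, fixed ρ R, hcompl.symm.inf_eq_bot, hcompl.symm.sup_eq_top,
    fun r hr v hv => mem_fixed.mp hv r hr, ?_, fun r hr hF => h.eq_one hr hF, ?_⟩
  · by_cases hab : ∀ g ∈ R, ∀ g' ∈ R, g * g' = g' * g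
    · have hR := h.eq_four h.four h.mem fun r hr g hg => hab r hr g (h.four_le h.four h.mem hg)
      left
      rw [hR]
      exact ⟨h.four.elementary, h.four.card⟩
    · exact Or.inr (h.extraspecial hab)
  · have hle : R ⊔ Subgroup.zpowers b ≤ Subgroup.normalizer (R : Set S) :=
      sup_le Subgroup.le_normalizer (by rw [Subgroup.zpowers_le]; exact h.normal)
    exact fun r hr v hv => map_moved (normal_conj_inv (hle hr)).1 hv
  · intro N hN hinv
    exact h.irred hN (fun r hr => hinv r (Subgroup.mem_sup_left hr))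
      (fun v hv => hinv b (Subgroup.mem_sup_right (Subgroup.mem_zpowers b)) v hv)

end Cfsg.Lib.CubicBlock
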