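import Cfsg.Agent.CubicBlock.Reduce

/-!
# The module of a two-group generated by commutators with `b`

`F = moved ρ R` is an irreducible and faithful module for `R B`; central four groups force `R` to be that four
group, and otherwise there is a central involution acting as `-1` on `F` and a moved four group in the second
centre.
-/

set_option autoImplicit false
set_option linter.unusedSectionVars false

namespace Cfsg.Lib.CubicBlock

open Module

variable {S : Type*} [Group S] [Finite S] {E : Type*} [AddCommGroup E] [Module (ZMod 3) E] [Finite E]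
  {ρ : Representation (ZMod 3) S E} {b q : S} {R : Subgroup S}

/-- The standing hypotheses. -/
structure Setting (ρ : Representation (ZMod 3) S E) (b q : S) (R : Subgroup S) : Prop where
  block : IsBlock ρ b
  isTwo : IsPGroup 2 R
  normal : b ∈ Subgroup.normalizer (R : Set S)
  gen : R = commB b R
  four : IsFour b q
  mem : q ∈ R

namespace Setting

variable (h : Setting ρ b q R)
include h

theorem not_dvd : ¬ 3 ∣ Nat.card R := not_three_dvd_of_isPGroup Nat.prime_two (by norm_num) h.isTwo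

theorem b_inv {x : S} (hx : x ∈ R) : b * x * b⁻¹ ∈ R := (normal_conj_inv h.normal).1 x hx

theorem not_centralized : b ∉ Subgroup.centralizer (R : Set S) := fun hc => h.four.ne (by
  rw [← Subgroup.mem_centralizer_iff.mp hc q h.mem, mul_inv_cancel_right])

theorem fix_b : ∀ v ∈ fixed ρ R, ρ b v = v := (h.block.fixed_moved h.not_dvd h.normal h.not_centralized).1

theorem range_le : LinearMap.range (nil ρ b) ≤ moved ρ R :=
  (h.block.fixed_moved h.not_dvd h.normal h.not_centralized).2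

theorem four_le {q₁ : S} (hq : IsFour b q₁) (hm : q₁ ∈ R) : fourSub b q₁ ≤ R := fun g hg => by
  rcases hq.mem_iff.mp hg with hg' | hg' | hg' | hg' <;> rw [hg']
  · exact R.one_mem
  · exact hm
  · exact h.b_inv hm
  · exact R.mul_mem hm (h.b_inv hm)

theorem moved_four_le {q₁ : S} (hq : IsFour b q₁) (hm : q₁ ∈ R) : moved ρ (fourSub b q₁) ≤ moved ρ R :=
  moved_le fun g hg v => sub_mem_moved (h.four_le hq hm hg) v

/-- Elements of `R B` are determined by their action on the moved space. -/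
theorem eq_one {g : S} (hg : g ∈ R ⊔ Subgroup.zpowers b) (hF : ∀ v ∈ moved ρ R, ρ g v = v) : g = 1 := by
  have hle : R ⊔ Subgroup.zpowers b ≤ fixingSub ρ (fixed ρ R) :=
    sup_le (fun r hr v hv => mem_fixed.mp hv r hr) (Subgroup.zpowers_le.mpr h.fix_b)
  refine h.block.inj (LinearMap.ext fun v => ?_)
  obtain ⟨a, ha, w, hw, rfl⟩ := Submodule.mem_sup.mp
    (show v ∈ fixed ρ R ⊔ moved ρ R by rw [(isCompl_fixed_moved h.not_dvd).sup_eq_top]; trivial)
  rw [map_add, hle hg a ha, hF w hw, map_one]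
  rfl

/-- Two elements of `R` acting equally on the moved space are equal. -/
theorem eq_of {g g' : S} (hg : g ∈ R) (hg' : g' ∈ R) (hF : ∀ v ∈ moved ρ R, ρ g v = ρ g' v) : g = g' := by
  have := h.eq_one (g := g'⁻¹ * g) (Subgroup.mem_sup_left (R.mul_mem (R.inv_mem hg') hg)) fun v hv => by
    rw [rho_mul, hF v hv, rho_inv_cancel]
  exact (inv_mul_eq_one.mp this).symm

/-- The moved space is irreducible. -/
theorem irred {U : Submodule (ZMod 3) E} (hle : U ≤ moved ρ R) (hR : ∀ r ∈ R, ∀ v ∈ U, ρ r v ∈ U)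
    (hbU : ∀ v ∈ U, ρ b v ∈ U) : U = ⊥ ∨ U = moved ρ R := by
  have hb3 := h.block.cube
  have hbinv : ∀ v ∈ U, ρ b⁻¹ v ∈ U := fun v hv => by
    have : b⁻¹ = b * b := by rw [inv_eq_iff_mul_eq_one, show b * (b * b) = b ^ 3 by rw [pow_succ', pow_two], hb3]
    rw [this, rho_mul]
    exact hbU _ (hbU v hv)
  by_cases hN : ∀ v ∈ U, ρ b v = v
  · left
    have hfix : R ≤ fixingSub ρ U := by
      rw [h.gen]
      refine (Subgroup.closure_le _).mpr ?_
      rintro _ ⟨x, hx, rfl⟩ v hv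
      have hb' : ρ b⁻¹ v = v := by conv_lhs => rw [← hN v hv, rho_inv_cancel]
      rw [rho_mul, rho_mul, rho_mul, hb', hN _ (hR x hx v hv), rho_inv_cancel]
    exact le_bot_iff.mp fun v hv => (isCompl_fixed_moved h.not_dvd).disjoint.le_bot
      ⟨mem_fixed.mpr fun r hr => hfix hr v hv, hle hv⟩
  push Not at hN
  obtain ⟨v, hvU, hv⟩ := hN
  right
  by_cases hI : LinearMap.range (nil ρ b) ≤ U
  · refine le_antisymm hle (moved_le_of_le ?_)
    rw [h.gen]
    refine (Subgroup.closure_le _).mpr ?_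
    rintro _ ⟨x, hx, rfl⟩ w
    refine (sup_le hI ?_ : support ρ b x ≤ U) (comm_mem_support x w)
    rintro _ ⟨y, hy, rfl⟩
    exact hR _ (R.inv_mem hx) _ (hI hy)
  exfalso
  obtain ⟨-, hrange, hW, hL⟩ := h.four.space h.block
  set W := moved ρ (fourSub b q)
  set r := b * q * b⁻¹ with hr
  have hv0 : nil ρ b v ≠ 0 := fun h0 => hv (sub_eq_zero.mp h0)
  have hwU : nil ρ b v ∈ U := U.sub_mem (hbU v hvU) hvU
  have hwW : nil ρ b v ∈ W := hrange ⟨v, rfl⟩
  obtain ⟨a1, a2, a3, e⟩ := h.four.decompose hwW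
  set w := nil ρ b v
  have hqU : ∀ g ∈ fourSub b q, w + ρ g w ∈ U := fun g hg => U.add_mem hwU (hR g (h.four_le h.four h.mem hg) w hwU)
  -- a non-zero vector of `U` on the first line
  obtain ⟨v₁, hv₁U, hv₁L, hv₁0⟩ : ∃ v₁, v₁ ∈ U ∧ v₁ ∈ line ρ b q q ∧ v₁ ≠ 0 := by
    have hback : ∀ x, x ≠ (0 : E) → ρ b x ≠ 0 := fun x hx h0 => hx (by
      rw [← rho_inv_cancel (ρ := ρ) b x, h0, map_zero])
    have m3 : b * (q * r) * b⁻¹ = q := by
      rw [show b * (q * r) * b⁻¹ = (b * q * b⁻¹) * (b * r * b⁻¹) by group, hr, h.four.prod, h.four.comm,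
        ← mul_assoc, h.four.sq', one_mul]
    have hmem3 : q * r ∈ fourSub b q := h.four.mem_iff.mpr (by simp [hr])
    by_cases h1 : w + ρ q w = 0
    swap; · exact ⟨_, hqU q (h.four.mem_iff.mpr (by simp)), a1, h1⟩
    by_cases h3 : w + ρ (q * r) w = 0
    swap
    · exact ⟨_, hbU _ (hqU _ hmem3), (congrArg (line ρ b q) m3) ▸ h.four.map_line hb3 a3, hback _ h3⟩
    by_cases h2 : w + ρ r w = 0
    · exfalso
      rw [← hr, h1, h2, h3] at e
      apply hv0
      simp only [add_zero] at e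
      have := three_smul w
      linear_combination (norm := module) this - e
    · have hb2 : ρ b (w + ρ r w) ∈ line ρ b q (q * r) := by
        have := h.four.map_line hb3 a2
        rwa [h.four.prod] at this
      exact ⟨_, hbU _ (hbU _ (hqU r (h.four.mem_iff.mpr (by simp [hr])))), (congrArg (line ρ b q) m3) ▸ h.four.map_line hb3 hb2,
        hback _ (hback _ h2)⟩
  have hL1 : line ρ b q q ≤ U := fun x hx => by
    obtain ⟨⟨g, hg⟩, hgen⟩ := finrank_le_one_iff.mp hL.le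
    obtain ⟨c, hc⟩ := hgen ⟨v₁, hv₁L⟩
    obtain ⟨d, hd⟩ := hgen ⟨x, hx⟩
    replace hc : c • g = v₁ := congrArg Subtype.val hc
    replace hd : d • g = x := congrArg Subtype.val hd
    have hc0 : c ≠ 0 := fun h0 => hv₁0 (by rw [← hc, h0, zero_smul])
    have hgU : g ∈ U := by
      have := U.smul_mem c⁻¹ hv₁U
      rwa [← hc, smul_smul, inv_mul_cancel₀ hc0, one_smul] at this
    rw [← hd]
    exact U.smul_mem d hgU
  have hback2 : ∀ g x, ρ b x ∈ U → x ∈ line ρ b q g → x ∈ U := fun g x hx _ => by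
    have := hbinv _ hx
    rwa [rho_inv_cancel] at this
  have hL3 : line ρ b q (q * r) ≤ U := fun x hx => hback2 _ x (hL1 (by
    have := h.four.map_line hb3 hx
    rwa [show b * (q * r) * b⁻¹ = (b * q * b⁻¹) * (b * r * b⁻¹) by group, hr, h.four.prod, h.four.comm,
      ← mul_assoc, h.four.sq', one_mul] at this)) hx
  have hL2 : line ρ b q r ≤ U := fun x hx => hback2 _ x (hL3 (by
    have := h.four.map_line hb3 hx
    rwa [h.four.prod] at this)) hx
  refine hI (hrange.trans fun x hx => ?_)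
  obtain ⟨c1, c2, c3, ec⟩ := h.four.decompose hx
  have e' : x = -((x + ρ q x) + (x + ρ r x) + (x + ρ (q * r) x)) := by
    rw [hr, ← ec]
    linear_combination (norm := module) three_smul x
  rw [e']
  exact U.neg_mem (U.add_mem (U.add_mem (hL1 c1) (hL2 c2)) (hL3 c3))

theorem map_moved_R {r : S} (hr : r ∈ R) {v : E} (hv : v ∈ moved ρ R) : ρ r v ∈ moved ρ R := by
  simpa using (moved ρ R).add_mem (sub_mem_moved hr v) hv

theorem map_moved_b {v : E} (hv : v ∈ moved ρ R) : ρ b v ∈ moved ρ R :=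
  map_moved (normal_conj_inv h.normal).1 hv

/-- The fixed space of a subgroup centralised by `R` and normalised by `b` meets the moved space trivially. -/
theorem fixed_inf_moved {H : Subgroup S} (hH : H ≤ R) (hH1 : ∃ g ∈ H, g ≠ 1)
    (hc : ∀ r ∈ R, ∀ g ∈ H, r * g = g * r) (hn : b ∈ Subgroup.normalizer (H : Set S)) :
    fixed ρ H ⊓ moved ρ R = ⊥ := by
  rcases h.irred (U := fixed ρ H ⊓ moved ρ R) inf_le_right
      (fun r hr v hv => ⟨map_fixed (fun g hg => by rwa [mul_assoc, ← hc r hr g hg, inv_mul_cancel_left]) hv.1,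
        h.map_moved_R hr hv.2⟩)
      (fun v hv => ⟨map_fixed (normal_conj_inv hn).2 hv.1, h.map_moved_b hv.2⟩) with h0 | h0
  · exact h0
  · obtain ⟨g, hg, hg1⟩ := hH1
    exact absurd (h.eq_one (Subgroup.mem_sup_left (hH hg)) fun v hv =>
      mem_fixed.mp (h0.ge hv).1 g hg) hg1

theorem four_ne_one {q₁ : S} (hq : IsFour b q₁) : q₁ ≠ 1 := fun h1 => hq.ne (by rw [h1]; group)

/-- A central four group moved by `b` is all of `R`. -/
theorem eq_four {q₁ : S} (hq : IsFour b q₁) (hm : q₁ ∈ R) (hc : ∀ r ∈ R, ∀ g ∈ fourSub b q₁, r * g = g * r) :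
    R = fourSub b q₁ := by
  refine le_antisymm ?_ (h.four_le hq hm)
  have hb3 := h.block.cube
  obtain ⟨-, -, hW, hL⟩ := hq.space h.block
  have hfix := h.fixed_inf_moved (h.four_le hq hm) ⟨q₁, hq.mem_iff.mpr (by simp), h.four_ne_one hq⟩ hc
    (hq.conj_mem hb3)
  set W := moved ρ (fourSub b q₁)
  have hFW : moved ρ R ≤ W := fun v hv => by
    obtain ⟨a, ha, w, hw, rfl⟩ := Submodule.mem_sup.mp
      (show v ∈ fixed ρ (fourSub b q₁) ⊔ W by rw [(isCompl_fixed_moved hq.card_not_dvd).sup_eq_top]; trivial)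
    have ha' : a ∈ moved ρ R := by
      have := (moved ρ R).sub_mem hv (h.moved_four_le hq hm hw)
      rwa [add_sub_cancel_right] at this
    have : a ∈ (⊥ : Submodule (ZMod 3) E) := hfix ▸ ⟨ha, ha'⟩
    rw [(Submodule.mem_bot _).mp this, zero_add]
    exact hw
  obtain ⟨⟨v₁, hv₁⟩, hgen⟩ := finrank_le_one_iff.mp hL.le
  set r := b * q₁ * b⁻¹ with hr
  set v₂ := ρ b v₁
  set v₃ := ρ b v₂
  have hv₂ : v₂ ∈ line ρ b q₁ r := hq.map_line hb3 hv₁
  have hv₃ : v₃ ∈ line ρ b q₁ (q₁ * r) := by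
    have := hq.map_line hb3 hv₂
    rwa [hq.prod] at this
  have hb31 : ρ b v₃ = v₁ := by
    show ρ b (ρ b (ρ b v₁)) = v₁
    rw [← rho_mul, ← rho_mul, show b * b * b = b ^ 3 by rw [pow_succ, pow_two], hb3, map_one]; rfl
  have hspan : ∀ g : S, g ∈ R → ∀ g' : S, g' ∈ R → ρ g v₁ = ρ g' v₁ → ρ g v₂ = ρ g' v₂ → ρ g v₃ = ρ g' v₃ →
      g = g' := by
    intro g hg g' hg' e1 e2 e3
    refine h.eq_of hg hg' fun v hv => ?_
    obtain ⟨c1, c2, c3, ec⟩ := hq.decompose (hFW hv)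
    have e' : v = -((v + ρ q₁ v) + (v + ρ r v) + (v + ρ (q₁ * r) v)) := by
      rw [hr, ← ec]
      linear_combination (norm := module) three_smul v
    obtain ⟨s1, hs1⟩ := hgen ⟨_, c1⟩
    have hmap3 : b * (q₁ * r) * b⁻¹ = q₁ := by
      rw [show b * (q₁ * r) * b⁻¹ = (b * q₁ * b⁻¹) * (b * r * b⁻¹) by group, hr, hq.prod, hq.comm,
        ← mul_assoc, hq.sq', one_mul]
    have hin2 : ρ b (ρ b (v + ρ r v)) ∈ line ρ b q₁ q₁ := by
      have t1 : ρ b (v + ρ r v) ∈ line ρ b q₁ (q₁ * r) := by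
        have := hq.map_line hb3 c2
        rwa [hq.prod] at this
      have := hq.map_line hb3 t1
      rwa [show b * (q₁ * r) * b⁻¹ = (b * q₁ * b⁻¹) * (b * r * b⁻¹) by group, hr, hq.prod, hq.comm,
        ← mul_assoc, hq.sq', one_mul] at this
    have hin3 : ρ b (v + ρ (q₁ * r) v) ∈ line ρ b q₁ q₁ := by
      exact (congrArg (line ρ b q₁) hmap3) ▸ hq.map_line hb3 c3
    obtain ⟨s2, hs2⟩ := hgen ⟨_, hin2⟩
    obtain ⟨s3, hs3⟩ := hgen ⟨_, hin3⟩
    replace hs1 : s1 • v₁ = v + ρ q₁ v := congrArg Subtype.val hs1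
    replace hs2 : s2 • v₁ = ρ b (ρ b (v + ρ r v)) := congrArg Subtype.val hs2
    replace hs3 : s3 • v₁ = ρ b (v + ρ (q₁ * r) v) := congrArg Subtype.val hs3
    have hcube : ∀ x, ρ b (ρ b (ρ b x)) = x := fun x => by
      rw [← rho_mul, ← rho_mul, show b * b * b = b ^ 3 by rw [pow_succ, pow_two], hb3, map_one]; rfl
    have d2 : v + ρ r v = s2 • v₂ := by
      rw [← hcube (v + ρ r v), ← hs2, map_smul]
    have d3 : v + ρ (q₁ * r) v = s3 • v₃ := by
      rw [← hcube (v + ρ (q₁ * r) v), ← hs3, map_smul, map_smul]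
    rw [e', ← hs1, d2, d3]
    simp only [map_neg, map_add, map_smul, e1, e2, e3]
  -- each element is a diagonal sign matrix
  have hsign : ∀ x ∈ R, ∃ c₁ c₂ c₃ : ZMod 3, c₁ ≠ 0 ∧ c₂ ≠ 0 ∧ c₃ ≠ 0 ∧
      ρ x v₁ = c₁ • v₁ ∧ ρ x v₂ = c₂ • v₂ ∧ ρ x v₃ = c₃ • v₃ := by
    intro x hx
    have key : ∀ y ∈ R, ∃ c : ZMod 3, c • v₁ = ρ y v₁ ∧ (v₁ ≠ 0 → c ≠ 0) := fun y hy => by
      have hy1 : ρ y v₁ ∈ line ρ b q₁ q₁ := ⟨mem_fixed_zpowers.mpr (by
        rw [← rho_mul, ← hc y hy q₁ (hq.mem_iff.mpr (by simp)), rho_mul, mem_fixed_zpowers.mp hv₁.1]),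
        map_moved (fun g hg => by rwa [hc y hy g hg, mul_inv_cancel_right]) hv₁.2⟩
      obtain ⟨c, hc'⟩ := hgen ⟨_, hy1⟩
      replace hc' : c • v₁ = ρ y v₁ := congrArg Subtype.val hc'
      refine ⟨c, hc', fun hv0 h0 => hv0 ?_⟩
      rw [h0, zero_smul] at hc'
      rw [← rho_inv_cancel (ρ := ρ) y v₁, ← hc', map_zero]
    have hv10 : v₁ ≠ 0 := fun h0 => by
      obtain ⟨w, hw, hw0⟩ : ∃ w ∈ line ρ b q₁ q₁, w ≠ 0 := by
        by_contra hall
        push Not at hall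
        rw [show line ρ b q₁ q₁ = ⊥ from eq_bot_iff.mpr fun w hw => (Submodule.mem_bot _).mpr (hall w hw),
          finrank_bot] at hL
        omega
      obtain ⟨c, hc'⟩ := hgen ⟨w, hw⟩
      apply hw0
      rw [← show c • v₁ = w from congrArg Subtype.val hc', h0, smul_zero]
    have hbx := h.b_inv (h.b_inv hx)
    obtain ⟨c₁, e₁, n₁⟩ := key x hx
    obtain ⟨c₂, e₂, n₂⟩ := key _ hbx
    obtain ⟨c₃, e₃, n₃⟩ := key _ (h.b_inv hx)
    refine ⟨c₁, c₂, c₃, n₁ hv10, n₂ hv10, n₃ hv10, e₁.symm, ?_, ?_⟩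
    · have := congrArg (ρ b) e₂
      rw [map_smul, ← rho_mul] at this
      rw [this, show b * (b * (b * x * b⁻¹) * b⁻¹) = x * b by
        rw [← mul_inv_eq_iff_eq_mul, conj_conj_conj hb3], rho_mul]
    · have := congrArg (fun w => ρ b (ρ b w)) e₃
      simp only [map_smul, ← rho_mul] at this
      show ρ x (ρ b (ρ b v₁)) = c₃ • ρ b (ρ b v₁)
      rw [← rho_mul b b, ← rho_mul x, this]
      congr 2
      conv_lhs => rw [← conj_conj_conj hb3 x]
      group
  rw [h.gen]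
  refine (Subgroup.closure_le _).mpr ?_
  rintro _ ⟨x, hx, rfl⟩
  obtain ⟨c₁, c₂, c₃, n₁, n₂, n₃, e₁, e₂, e₃⟩ := hsign x hx
  have hbinv : ∀ w : E, ρ b⁻¹ (ρ b w) = w := fun w => rho_inv_cancel b w
  have hbi1 : ρ b⁻¹ v₁ = v₃ := by rw [← hb31, rho_inv_cancel]
  have hsq : ∀ a : ZMod 3, a = 0 ∨ a * a = 1 := by decide
  have hxinv : ∀ (c : ZMod 3) (w : E), c ≠ 0 → ρ x w = c • w → ρ x⁻¹ w = c • w := fun c w hc0 hw => by
    have := congrArg (ρ x⁻¹) hw
    rw [rho_inv_cancel, map_smul] at this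
    conv_rhs => rw [this]
    rw [smul_smul, (hsq c).resolve_left hc0, one_smul]
  have u1 : ρ (x⁻¹ * (b * x * b⁻¹)) v₁ = (c₃ * c₁) • v₁ := by
    rw [rho_mul, rho_mul, rho_mul, hbi1, e₃, map_smul, hb31, map_smul, hxinv _ _ n₁ e₁, smul_smul]
  have u2 : ρ (x⁻¹ * (b * x * b⁻¹)) v₂ = (c₁ * c₂) • v₂ := by
    rw [rho_mul, rho_mul, rho_mul, hbinv, e₁, map_smul]
    show ρ x⁻¹ (c₁ • v₂) = _
    rw [map_smul, hxinv _ _ n₂ e₂, smul_smul]
  have u3 : ρ (x⁻¹ * (b * x * b⁻¹)) v₃ = (c₂ * c₃) • v₃ := by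
    rw [rho_mul, rho_mul, rho_mul, hbinv, e₂, map_smul]
    show ρ x⁻¹ (c₂ • v₃) = _
    rw [map_smul, hxinv _ _ n₃ e₃, smul_smul]
  have huR : x⁻¹ * (b * x * b⁻¹) ∈ R := R.mul_mem (R.inv_mem hx) (h.b_inv hx)
  have m1 : q₁ ∈ fourSub b q₁ := hq.mem_iff.mpr (by simp)
  have m2 : r ∈ fourSub b q₁ := hq.mem_iff.mpr (by simp [hr])
  have m3 : q₁ * r ∈ fourSub b q₁ := hq.mem_iff.mpr (by simp [hr])
  obtain ⟨g1, g2, g3⟩ := hq.generates
  have f1 : ρ q₁ v₁ = v₁ := mem_fixed_zpowers.mp hv₁.1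
  have f2 : ρ q₁ v₂ = -v₂ := hq.neg_on_line m2 m1 g3 hv₂
  have f3 : ρ q₁ v₃ = -v₃ := hq.neg_on_line m3 m1 (by rw [Set.pair_comm]; exact g1) hv₃
  have k1 : ρ r v₁ = -v₁ := hq.neg_on_line m1 m2 (by rw [Set.pair_comm]; exact g3) hv₁
  have k2 : ρ r v₂ = v₂ := mem_fixed_zpowers.mp hv₂.1
  have k3 : ρ r v₃ = -v₃ := hq.neg_on_line m3 m2 (by rw [Set.pair_comm]; exact g2) hv₃
  have hneg : ∀ w : E, (-1 : ZMod 3) • w = -w := fun w => by simp
  -- the four sign patterns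
  have hcases : ∀ a c d : ZMod 3, a = 0 ∨ c = 0 ∨ d = 0 ∨
      (d * a = 1 ∧ a * c = 1 ∧ c * d = 1) ∨ (d * a = 1 ∧ a * c = -1 ∧ c * d = -1) ∨
      (d * a = -1 ∧ a * c = 1 ∧ c * d = -1) ∨ (d * a = -1 ∧ a * c = -1 ∧ c * d = 1) := by decide
  rcases (((hcases c₁ c₂ c₃).resolve_left n₁).resolve_left n₂).resolve_left n₃ with ⟨p1, p2, p3⟩ | ⟨p1, p2, p3⟩ | ⟨p1, p2, p3⟩ | ⟨p1, p2, p3⟩ <;>
    simp only [p1, p2, p3, one_smul, hneg] at u1 u2 u3
  · exact (hspan _ huR 1 R.one_mem (by rw [u1, map_one]; rfl) (by rw [u2, map_one]; rfl) (by rw [u3, map_one]; rfl)).symm ▸ (fourSub b q₁).one_mem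
  · exact (hspan _ huR q₁ hm (u1.trans f1.symm) (u2.trans f2.symm) (u3.trans f3.symm)).symm ▸ m1
  · exact (hspan _ huR r (h.b_inv hm) (u1.trans k1.symm) (u2.trans k2.symm) (u3.trans k3.symm)).symm ▸ m2
  · refine (hspan _ huR _ (R.mul_mem hm (h.b_inv hm)) ?_ ?_ ?_).symm ▸ m3
    · rw [u1, rho_mul, k1, map_neg, f1]
    · rw [u2, rho_mul, k2, f2]
    · rw [u3, rho_mul, k3, map_neg, f3, neg_neg]

end Setting

end Cfsg.Lib.CubicBlock
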