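import Cfsg.Agent.CubicBlock.Four

/-!
# Odd primes and an element with one cubic block

An element with one cubic block centralises every `r`-group that it normalises for odd `r ≠ 3, 13`; the possible
cyclic groups of order 13 are analysed.
-/

set_option autoImplicit false
set_option linter.unusedSectionVars false

namespace Cfsg.Lib.CubicBlock

open Module

variable {S : Type*} [Group S] [Finite S] {E : Type*} [AddCommGroup E] [Module (ZMod 3) E] [Finite E]
  {ρ : Representation (ZMod 3) S E} {b : S}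

theorem not_three_dvd_of_isPGroup {r : ℕ} (hr : r.Prime) (hr3 : r ≠ 3) {P : Subgroup S} (hP : IsPGroup r P) :
    ¬ 3 ∣ Nat.card P := by
  haveI := Fact.mk hr
  obtain ⟨a, ha⟩ := IsPGroup.iff_card.mp hP
  rw [ha]
  exact fun h => hr3 ((Nat.prime_dvd_prime_iff_eq Nat.prime_three hr).mp (Nat.prime_three.dvd_of_dvd_pow h)).symm

/-- The order of `GL(k, 3)`, `k ≤ 4`. -/
theorem glCard_four {k : ℕ} (hk : k ≤ 4) :
    (∏ i : Fin k, (3 ^ k - 3 ^ (i : ℕ))) ∣ 2 ^ 9 * 3 ^ 6 * (5 * 13) := by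
  interval_cases k <;> simp only [Fin.prod_univ_succ, Fin.prod_univ_zero, Fin.val_zero, Fin.val_succ] <;> norm_num

/-- The order of `GL(k, 3)`, `k ≤ 5`. -/
theorem glCard_five {k : ℕ} (hk : k ≤ 5) :
    (∏ i : Fin k, (3 ^ k - 3 ^ (i : ℕ))) ∣ 2 ^ 10 * 3 ^ 10 * (5 * 11 ^ 2 * 13) := by
  interval_cases k <;> simp only [Fin.prod_univ_succ, Fin.prod_univ_zero, Fin.val_zero, Fin.val_succ] <;> norm_num

/-- An `r`-subgroup of a small linear group for odd `r ≠ 3` has order one, five or thirteen. -/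
theorem card_small (hb : IsBlock ρ b) {r : ℕ} (hr : r.Prime) (hr2 : r ≠ 2) (hr3 : r ≠ 3) {H : Subgroup S}
    {U : Submodule (ZMod 3) E} (hH : IsPGroup r H) (hle : H ≤ moveSub ρ U) (hU : finrank (ZMod 3) U ≤ 4) :
    Nat.card H = 1 ∨ (Nat.card H = r ∧ (r = 5 ∨ r = 13)) := by
  haveI := Fact.mk hr
  have h1 := (card_dvd_of_le_moveSub hb.inj (not_three_dvd_of_isPGroup hr hr3 hH) hle).trans (glCard_four hU)
  obtain ⟨a, ha⟩ := IsPGroup.iff_card.mp hH
  have c2 : (r ^ a).Coprime (2 ^ 9 * 3 ^ 6) :=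
    Nat.Coprime.mul_right (Nat.Coprime.pow _ _ ((Nat.coprime_primes hr Nat.prime_two).mpr hr2))
      (Nat.Coprime.pow _ _ ((Nat.coprime_primes hr Nat.prime_three).mpr hr3))
  rw [ha] at h1 ⊢
  have h65 : r ^ a ∣ 5 * 13 := c2.dvd_of_dvd_mul_left h1
  rcases Nat.eq_zero_or_pos a with rfl | hapos
  · exact Or.inl (pow_zero r)
  have hr65 : r ∣ 5 * 13 := (dvd_pow_self r (by omega)).trans h65
  have hr' : r = 5 ∨ r = 13 := by
    rcases (Nat.Prime.dvd_mul hr).mp hr65 with h | h
    · exact Or.inl ((Nat.prime_dvd_prime_iff_eq hr (by norm_num)).mp h)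
    · exact Or.inr ((Nat.prime_dvd_prime_iff_eq hr (by norm_num)).mp h)
  refine Or.inr ⟨?_, hr'⟩
  rcases Nat.lt_or_ge a 2 with h2 | h2
  · rw [show a = 1 by omega, pow_one]
  · exfalso
    have := (pow_dvd_pow r h2).trans h65
    rcases hr' with rfl | rfl <;> norm_num at this

theorem conj_conj_conj (hb3 : b ^ 3 = 1) (x : S) : b * (b * (b * x * b⁻¹) * b⁻¹) * b⁻¹ = x := by
  rw [show b * (b * (b * x * b⁻¹) * b⁻¹) * b⁻¹ = b ^ 3 * x * (b ^ 3)⁻¹ by simp [pow_succ, mul_assoc, mul_inv_rev],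
    hb3, one_mul, inv_one, mul_one]

/-- If `b` fixes `x⁻¹ (b x b⁻¹)` and this lies in a subgroup of order prime to three, it is trivial. -/
theorem comm_eq_one_of_fixed (hb3 : b ^ 3 = 1) {H : Subgroup S} (hH : ¬ 3 ∣ Nat.card H) {x u : S}
    (hu : u = x⁻¹ * (b * x * b⁻¹)) (huH : u ∈ H) (hfix : b * u * b⁻¹ = u) : u = 1 := by
  have h1 : b * x * b⁻¹ = x * u := by rw [hu, mul_inv_cancel_left]
  have h3 : x = x * (u * u * u) := by
    have e2 : b * (b * x * b⁻¹) * b⁻¹ = x * u * u := by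
      rw [h1, show b * (x * u) * b⁻¹ = (b * x * b⁻¹) * (b * u * b⁻¹) by group, h1, hfix]
    calc x = b * (b * (b * x * b⁻¹) * b⁻¹) * b⁻¹ := (conj_conj_conj hb3 x).symm
      _ = b * (x * u * u) * b⁻¹ := by rw [e2]
      _ = (b * x * b⁻¹) * (b * u * b⁻¹) * (b * u * b⁻¹) := by group
      _ = x * (u * u * u) := by rw [h1, hfix]; group
  have h4 : (⟨u, huH⟩ : H) ^ 3 = 1 := Subtype.ext (by
    have := mul_left_cancel (a := x) (b := 1) (c := u * u * u) (by rw [mul_one]; exact h3)
    simpa [pow_succ] using this.symm)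
  have h5 := orderOf_dvd_of_pow_eq_one h4
  rcases (Nat.dvd_prime Nat.prime_three).mp h5 with h | h
  · exact congrArg Subtype.val (orderOf_eq_one_iff.mp h)
  · exact absurd (h ▸ orderOf_dvd_natCard (⟨u, huH⟩ : H)) hH

theorem b_mem_normalizer (hb3 : b ^ 3 = 1) {H : Subgroup S} (h : ∀ g ∈ H, b * g * b⁻¹ ∈ H) :
    b ∈ Subgroup.normalizer (H : Set S) := by
  rw [Subgroup.mem_normalizer_iff]
  refine fun g => ⟨h g, fun hg => ?_⟩
  have := h _ (h _ hg)
  rwa [conj_conj_conj hb3] at this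

theorem cube_root_five : ∀ a : ZMod 5, a * a * a = 1 → a = 1 := by decide

/-- `b` centralises normalised `r`-groups for odd `r ≠ 3, 13`. -/
theorem odd_comm (hb : IsBlock ρ b) {r : ℕ} (hr : r.Prime) (hr2 : r ≠ 2) (hr3 : r ≠ 3) (hr13 : r ≠ 13)
    {P : Subgroup S} (hP : IsPGroup r P) (hbP : b ∈ Subgroup.normalizer (P : Set S)) {x : S} (hx : x ∈ P) :
    b * x * b⁻¹ = x := by
  set u := x⁻¹ * (b * x * b⁻¹) with hu
  suffices h : u = 1 by
    calc b * x * b⁻¹ = x * u := by rw [hu, mul_inv_cancel_left]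
      _ = x := by rw [h, mul_one]
  set H := P ⊓ moveSub ρ (support ρ b x)
  have huH : u ∈ H := ⟨P.mul_mem (P.inv_mem hx) ((Subgroup.mem_normalizer_iff.mp hbP x).mp hx), comm_mem_support x⟩
  have hH : IsPGroup r H := hP.to_le inf_le_left
  rcases card_small hb hr hr2 hr3 hH inf_le_right (hb.finrank_support x) with h | ⟨h, h5 | h13⟩
  · rw [Subgroup.card_eq_one.mp h, Subgroup.mem_bot] at huH
    exact huH
  swap; · exact absurd h13 hr13
  subst h5
  by_contra hne
  refine hne (comm_eq_one_of_fixed hb.cube (not_three_dvd_of_isPGroup hr hr3 hH) hu huH ?_)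
  haveI : Fact (Nat.Prime 5) := ⟨hr⟩
  have hbu : b * u * b⁻¹ ∈ H := ⟨(Subgroup.mem_normalizer_iff.mp hbP u).mp huH.1,
    (moveSub ρ (support ρ b x)).mul_mem ((moveSub ρ (support ρ b x)).mul_mem (b_mem_support x) huH.2) ((moveSub ρ (support ρ b x)).inv_mem (b_mem_support x))⟩
  have hord : orderOf u = 5 := by
    have := orderOf_dvd_natCard (⟨u, huH⟩ : H)
    rw [h, Subgroup.orderOf_mk] at this
    rcases (Nat.dvd_prime hr).mp this with h1 | h1
    · exact absurd (orderOf_eq_one_iff.mp h1) hne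
    · exact h1
  have hgen : Subgroup.zpowers u = H :=
    Subgroup.eq_of_le_of_card_ge (Subgroup.zpowers_le.mpr huH) (by rw [Nat.card_zpowers, hord, h])
  rw [← hgen] at hbu
  obtain ⟨i, hi⟩ := mem_powers_iff_mem_zpowers.mpr hbu
  replace hi : u ^ i = b * u * b⁻¹ := hi
  have h3 : u ^ (i * i * i) = u := by
    conv_rhs => rw [← conj_conj_conj hb.cube u, ← hi, ← conj_pow, ← hi, ← pow_mul, ← conj_pow, ← hi, ← pow_mul]
    rw [mul_assoc]
  have h4 : i * i * i ≡ 1 [MOD 5] := by rw [← hord, ← pow_eq_pow_iff_modEq, h3, pow_one]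
  have h5 : i ≡ 1 [MOD 5] := by
    rw [← ZMod.natCast_eq_natCast_iff] at h4 ⊢
    push_cast at h4 ⊢
    exact cube_root_five _ h4
  rw [← hi, ← pow_one u, ← pow_mul, one_mul]
  exact pow_eq_pow_iff_modEq.mpr (hord.symm ▸ h5)

/-- An element of order thirteen normalised and not centralised by `b`, moving a space of dimension at most four. -/
structure IsThirteen (ρ : Representation (ZMod 3) S E) (b u : S) : Prop where
  order : orderOf u = 13
  conj : b * u * b⁻¹ ∈ Subgroup.zpowers u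
  ne : b * u * b⁻¹ ≠ u
  dim : finrank (ZMod 3) (moved ρ (Subgroup.zpowers u)) ≤ 4

/-- A commutator with `b` in a normalised thirteen-group. -/
theorem isThirteen_comm (hb : IsBlock ρ b) {P : Subgroup S} (hP : IsPGroup 13 P)
    (hbP : b ∈ Subgroup.normalizer (P : Set S)) {x : S} (hx : x ∈ P) (hne : b * x * b⁻¹ ≠ x) :
    IsThirteen ρ b (x⁻¹ * (b * x * b⁻¹)) := by
  have h13 : Nat.Prime 13 := by norm_num
  haveI := Fact.mk h13
  set u := x⁻¹ * (b * x * b⁻¹) with hu
  have hu1 : u ≠ 1 := fun h => hne (by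
    calc b * x * b⁻¹ = x * u := by rw [hu, mul_inv_cancel_left]
      _ = x := by rw [h, mul_one])
  set H := P ⊓ moveSub ρ (support ρ b x)
  have huH : u ∈ H := ⟨P.mul_mem (P.inv_mem hx) ((Subgroup.mem_normalizer_iff.mp hbP x).mp hx), comm_mem_support x⟩
  have hH : IsPGroup 13 H := hP.to_le inf_le_left
  have h3 := not_three_dvd_of_isPGroup h13 (by norm_num) hH
  rcases card_small hb h13 (by norm_num) (by norm_num) hH inf_le_right (hb.finrank_support x) with h | ⟨h, -⟩
  · rw [Subgroup.card_eq_one.mp h, Subgroup.mem_bot] at huH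
    exact absurd huH hu1
  have hord : orderOf u = 13 := by
    have := orderOf_dvd_natCard (⟨u, huH⟩ : H)
    rw [h, Subgroup.orderOf_mk] at this
    rcases (Nat.dvd_prime h13).mp this with h1 | h1
    · exact absurd (orderOf_eq_one_iff.mp h1) hu1
    · exact h1
  have hgen : Subgroup.zpowers u = H :=
    Subgroup.eq_of_le_of_card_ge (Subgroup.zpowers_le.mpr huH) (by rw [Nat.card_zpowers, hord, h])
  refine ⟨hord, ?_, fun hfix => hu1 (comm_eq_one_of_fixed hb.cube h3 hu huH hfix), ?_⟩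
  · rw [hgen]
    exact ⟨(Subgroup.mem_normalizer_iff.mp hbP u).mp huH.1,
      (moveSub ρ (support ρ b x)).mul_mem ((moveSub ρ (support ρ b x)).mul_mem (b_mem_support x) huH.2) ((moveSub ρ (support ρ b x)).inv_mem (b_mem_support x))⟩
  · exact (Submodule.finrank_mono (moved_le_of_le (Subgroup.zpowers_le.mpr huH.2))).trans (hb.finrank_support x)

namespace IsThirteen

variable {u : S}

theorem not_dvd (hu : IsThirteen ρ b u) : ¬ 3 ∣ Nat.card (Subgroup.zpowers u) := by
  rw [Nat.card_zpowers, hu.order]; norm_num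

theorem b_normalizes (hb : IsBlock ρ b) (hu : IsThirteen ρ b u) :
    b ∈ Subgroup.normalizer (Subgroup.zpowers u : Set S) := by
  refine b_mem_normalizer hb.cube fun g hg => ?_
  obtain ⟨n, rfl⟩ := Subgroup.mem_zpowers_iff.mp hg
  rw [← conj_zpow]
  exact zpow_mem hu.conj n

theorem fixed_moved (hb : IsBlock ρ b) (hu : IsThirteen ρ b u) :
    (∀ v ∈ fixed ρ (Subgroup.zpowers u), ρ b v = v) ∧
      LinearMap.range (nil ρ b) ≤ moved ρ (Subgroup.zpowers u) :=
  hb.fixed_moved hu.not_dvd (hu.b_normalizes hb) fun h => hu.ne (by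
    rw [← Subgroup.mem_centralizer_iff.mp h u (Subgroup.mem_zpowers u), mul_inv_cancel_right])

theorem map_mem (u : S) {v : E} (hv : v ∈ moved ρ (Subgroup.zpowers u)) :
    ρ u v ∈ moved ρ (Subgroup.zpowers u) := by
  simpa using (moved ρ (Subgroup.zpowers u)).add_mem (sub_mem_moved (Subgroup.mem_zpowers u) v) hv

/-- An invariant subspace of the moved space has `3 ^ dim ≡ 1` modulo thirteen. -/
theorem pow_finrank (hu : IsThirteen ρ b u) {U : Submodule (ZMod 3) E}
    (hU : ∀ v ∈ U, ρ u v ∈ U) (hle : U ≤ moved ρ (Subgroup.zpowers u)) :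
    3 ^ finrank (ZMod 3) U % 13 = 1 := by
  haveI : Fact (Nat.Prime 13) := ⟨by norm_num⟩
  have hU' : ∀ g : Subgroup.zpowers u, ∀ v ∈ U, ρ (g : S) v ∈ U := by
    rintro ⟨g, hg⟩
    obtain ⟨n, rfl⟩ := mem_powers_iff_mem_zpowers.mpr hg
    show ∀ v ∈ U, ρ (u ^ n) v ∈ U
    clear hg
    induction n with
    | zero => simp
    | succ n ih => intro v hv; rw [pow_succ, rho_mul]; exact ih _ (hU v hv)
  letI : MulAction (Subgroup.zpowers u) U :=
    { smul := fun g v => ⟨ρ (g : S) v, hU' g v v.2⟩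
      one_smul := fun v => Subtype.ext (by show ρ ((1 : Subgroup.zpowers u) : S) v = v; simp)
      mul_smul := fun g h v => Subtype.ext (rho_mul (ρ := ρ) g h v) }
  have hp : IsPGroup 13 (Subgroup.zpowers u) := IsPGroup.of_card (n := 1) (by
    rw [Nat.card_zpowers, hu.order, pow_one])
  have hmod := hp.card_modEq_card_fixedPoints (α := U)
  have hfix : Nat.card (MulAction.fixedPoints (Subgroup.zpowers u) U) = 1 := by
    rw [Nat.card_eq_one_iff_unique]
    refine ⟨⟨fun x y => ?_⟩, ⟨⟨0, fun g => Subtype.ext (map_zero _)⟩⟩⟩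
    have hz : ∀ x : MulAction.fixedPoints (Subgroup.zpowers u) U, ((x : U) : E) = 0 := fun x =>
      (Submodule.mem_bot (ZMod 3)).mp ((isCompl_fixed_moved (ρ := ρ) hu.not_dvd).disjoint.le_bot
        ⟨mem_fixed.mpr fun g hg => congrArg Subtype.val (x.2 ⟨g, hg⟩), hle x.1.2⟩)
    exact Subtype.ext (Subtype.ext ((hz x).trans (hz y).symm))
  rw [hfix, Module.natCard_eq_pow_finrank (K := ZMod 3), Nat.card_zmod] at hmod
  exact hmod

/-- The moved space has dimension three. -/
theorem dim_eq (hb : IsBlock ρ b) (hu : IsThirteen ρ b u) :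
    finrank (ZMod 3) (moved ρ (Subgroup.zpowers u)) = 3 := by
  have h1 := Submodule.finrank_mono (hu.fixed_moved hb).2
  have h2 := hu.dim
  have h3 := hu.pow_finrank (fun v hv => map_mem u hv) le_rfl
  rw [hb.rank] at h1
  generalize finrank (ZMod 3) (moved ρ (Subgroup.zpowers u)) = k at *
  interval_cases k <;> omega

/-- The moved space is irreducible. -/
theorem eq_bot_or_eq (hb : IsBlock ρ b) (hu : IsThirteen ρ b u) {U : Submodule (ZMod 3) E}
    (hU : ∀ v ∈ U, ρ u v ∈ U) (hle : U ≤ moved ρ (Subgroup.zpowers u)) :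
    U = ⊥ ∨ U = moved ρ (Subgroup.zpowers u) := by
  have h1 := Submodule.finrank_mono hle
  have h2 := hu.pow_finrank hU hle
  have h3 := hu.dim_eq hb
  rw [h3] at h1
  rcases Nat.eq_zero_or_pos (finrank (ZMod 3) U) with h | h
  · exact Or.inl (Submodule.finrank_eq_zero.mp h)
  · refine Or.inr (Submodule.eq_of_le_of_finrank_eq hle ?_)
    rw [h3]
    generalize finrank (ZMod 3) U = k at *
    interval_cases k <;> omega

/-- Two such elements in a thirteen-group whose moved spaces meet generate the same group. -/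
theorem mem_zpowers (hb : IsBlock ρ b) (hu : IsThirteen ρ b u) {v : S} (P : Subgroup S) (hP : IsPGroup 13 P)
    (huP : u ∈ P) (hvP : v ∈ P) (hdim : finrank (ZMod 3) (moved ρ (Subgroup.zpowers v)) ≤ 3)
    (hmeet : moved ρ (Subgroup.zpowers u) ⊓ moved ρ (Subgroup.zpowers v) ≠ ⊥) : v ∈ Subgroup.zpowers u := by
  have h13 : Nat.Prime 13 := by norm_num
  haveI := Fact.mk h13
  set U := moved ρ (Subgroup.zpowers u) ⊔ moved ρ (Subgroup.zpowers v)
  have hU : finrank (ZMod 3) U ≤ 5 := by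
    have h1 := Submodule.finrank_sup_add_finrank_inf_eq (moved ρ (Subgroup.zpowers u)) (moved ρ (Subgroup.zpowers v))
    rw [hu.dim_eq hb] at h1
    have h2 : finrank (ZMod 3) ↥(moved ρ (Subgroup.zpowers u) ⊓ moved ρ (Subgroup.zpowers v)) ≠ 0 :=
      fun h => hmeet (Submodule.finrank_eq_zero.mp h)
    show finrank (ZMod 3) ↥(moved ρ (Subgroup.zpowers u) ⊔ moved ρ (Subgroup.zpowers v)) ≤ 5
    omega
  set H := P ⊓ moveSub ρ U
  have hH : IsPGroup 13 H := hP.to_le inf_le_left
  have huH : u ∈ H := ⟨huP, fun w => Submodule.mem_sup_left (sub_mem_moved (Subgroup.mem_zpowers u) w)⟩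
  have hvH : v ∈ H := ⟨hvP, fun w => Submodule.mem_sup_right (sub_mem_moved (Subgroup.mem_zpowers v) w)⟩
  have hd := (card_dvd_of_le_moveSub hb.inj (not_three_dvd_of_isPGroup h13 (by norm_num) hH) inf_le_right).trans
    (glCard_five hU)
  obtain ⟨a, ha⟩ := IsPGroup.iff_card.mp hH
  rw [ha] at hd
  have ha1 : a ≤ 1 := by
    by_contra hlt
    have := (pow_dvd_pow 13 (show 2 ≤ a by omega)).trans hd
    norm_num at this
  have hgen : Subgroup.zpowers u = H := Subgroup.eq_of_le_of_card_ge (Subgroup.zpowers_le.mpr huH) (by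
    rw [Nat.card_zpowers, hu.order, ha]
    calc 13 ^ a ≤ 13 ^ 1 := Nat.pow_le_pow_right (by norm_num) ha1
      _ = 13 := pow_one 13)
  rw [hgen]
  exact hvH

/-- A two-element commuting with `u` is a scalar on the moved space. -/
theorem scalar_two (hb : IsBlock ρ b) (hu : IsThirteen ρ b u) {k : ℕ} : ∀ {g : S}, g ^ 2 ^ k = 1 → g * u = u * g →
    (∀ v ∈ moved ρ (Subgroup.zpowers u), ρ g v = v) ∨ (∀ v ∈ moved ρ (Subgroup.zpowers u), ρ g v = -v) := by
  induction k with
  | zero =>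
    intro g hg _
    left; intro v _
    rw [pow_zero, pow_one] at hg
    rw [hg, map_one]; rfl
  | succ k ih =>
    intro g hg hgu
    set W := moved ρ (Subgroup.zpowers u) with hW
    have hgW : ∀ v ∈ W, ρ g v ∈ W := fun v hv => map_moved (fun h hh => by
      obtain ⟨n, rfl⟩ := Subgroup.mem_zpowers_iff.mp hh
      rw [(Commute.zpow_right hgu n).eq, mul_inv_cancel_right]
      exact hh) hv
    rcases ih (g := g * g) (by rw [← pow_two, ← pow_mul, ← pow_succ']; exact hg)
        (show Commute (g * g) u from Commute.mul_left hgu hgu) with h | h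
    · -- an involution on `W`
      have hinv : ∀ v ∈ W, ρ g (ρ g v) = v := fun v hv => by rw [← rho_mul]; exact h v hv
      let U : Submodule (ZMod 3) E := W ⊓ LinearMap.ker (ρ g - 1)
      have hUu : ∀ v ∈ U, ρ u v ∈ U := fun v hv => ⟨map_mem u hv.1, by
        have hv' : ρ g v = v := sub_eq_zero.mp (LinearMap.mem_ker.mp hv.2)
        show ρ g (ρ u v) - ρ u v = 0
        rw [← rho_mul, hgu, rho_mul, hv', sub_self]⟩
      rcases hu.eq_bot_or_eq hb hUu inf_le_left with hU | hU
      · right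
        intro v hv
        have : v + ρ g v ∈ U := ⟨W.add_mem hv (hgW v hv), by
          show ρ g (v + ρ g v) - (v + ρ g v) = 0
          rw [map_add, hinv v hv]; abel⟩
        rw [hU, Submodule.mem_bot, add_comm] at this
        exact eq_neg_of_add_eq_zero_left this
      · left
        intro v hv
        have : v ∈ U := by rw [hU]; exact hv
        exact sub_eq_zero.mp (LinearMap.mem_ker.mp this.2)
    · -- a square root of `-1` in odd dimension
      exfalso
      set f := (ρ g).restrict hgW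
      have hf : f * f = (-1 : ZMod 3) • LinearMap.id := by
        refine LinearMap.ext fun v => Subtype.ext ?_
        have e : ρ g (ρ g v) = -(v : E) := by rw [← rho_mul]; exact h v v.2
        simpa [f, LinearMap.restrict_coe_apply] using e
      have hd := congrArg LinearMap.det hf
      rw [map_mul, LinearMap.det_smul, LinearMap.det_id, mul_one, hu.dim_eq hb] at hd
      exact (by decide : ∀ a : ZMod 3, a * a ≠ (-1) ^ 3) _ hd

end IsThirteen

end Cfsg.Lib.CubicBlock
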