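import Cfsg.Agent.CubicBlock.Thirteen
import Cfsg.Agent.Coprime.Sylow
import Cfsg.Agent.Coprime.Fitting
import Cfsg.Agent.Coprime.SolvableBasics
import Cfsg.Agent.Components.Signalizer.Sft.Tools

/-!
# The commutator of the three-prime core with `b` is a two-group
-/

set_option autoImplicit false
set_option linter.unusedSectionVars false
set_option linter.style.haveILetI false

namespace Cfsg.Lib.CubicBlock

open Module
open scoped commutatorElement

variable {S : Type*} [Group S] [Finite S] {E : Type*} [AddCommGroup E] [Module (ZMod 3) E] [Finite E]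
  {ρ : Representation (ZMod 3) S E} {b q : S}

/-- A moved four group lies in the three-prime core when `b` is central in a Sylow three-subgroup. -/
theorem four_mem_core [Group.IsSolvable S] (hq : IsFour b q)
    (P : Sylow 3 S) (hbP : b ∈ (P : Subgroup S)) (hbZ : ∀ g ∈ (P : Subgroup S), b * g = g * b) :
    q ∈ Cfsg.pPrimeCore 3 S := by
  set K := Cfsg.pPrimeCore 3 S with hK
  haveI : K.Normal := Cfsg.Lib.Components.normal_of_mem_sSup_normal fun N hN => hN.1
  set π := QuotientGroup.mk' K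
  have hπ : Function.Surjective π := QuotientGroup.mk'_surjective K
  haveI : Group.IsSolvable (S ⧸ K) := solvable_of_surjective hπ
  set M := Cfsg.pCore 3 (S ⧸ K)
  have hbar : π b ∈ M := by
    refine Cfsg.Lib.Coprime.centralizer_pCore_le 3 Cfsg.Lib.Coprime.pPrimeCore_quotient_eq_bot ?_
    rw [Subgroup.mem_centralizer_iff]
    intro y hy
    have hyP : y ∈ ((P : Subgroup S).map π) := by
      have h := Cfsg.Lib.Coprime.pCore_le_sylow 3 (P.mapSurjective hπ) hy
      simpa using h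
    obtain ⟨g, hg, rfl⟩ := hyP
    rw [← map_mul, ← map_mul, hbZ g hg]
  haveI hMn : M.Normal := Cfsg.Lib.Components.normal_of_mem_sSup_normal fun N hN => hN.1
  set q' := b * q * b⁻¹ with hq'
  have hu : π (q * q') ∈ M := by
    have h1 : π q * π b * (π q)⁻¹ * (π b)⁻¹ ∈ M := M.mul_mem (hMn.conj_mem _ hbar _) (M.inv_mem hbar)
    have e : q * q' = q * b * q⁻¹ * b⁻¹ := by
      rw [hq', inv_eq_of_mul_eq_one_right hq.sq]; group
    rwa [e, map_mul, map_mul, map_mul, map_inv, map_inv]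
  have hsq : (q * q') * (q * q') = 1 := by
    calc q * q' * (q * q') = q * (q' * q) * q' := by group
      _ = q * q * (q' * q') := by rw [hq', ← hq.comm]; group
      _ = 1 := by rw [hq.sq, hq', hq.sq', one_mul]
  have h1 : π (q * q') = 1 := by
    haveI : Fact (Nat.Prime 3) := ⟨Nat.prime_three⟩
    obtain ⟨k, hk⟩ := (Cfsg.Lib.Components.isPGroup_pCore 3) ⟨_, hu⟩
    have hk' : π (q * q') ^ 3 ^ k = 1 := by simpa using congrArg Subtype.val hk
    have h2 : π (q * q') ^ 2 = 1 := by rw [pow_two, ← map_mul, hsq, map_one]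
    have hd := Nat.dvd_gcd (orderOf_dvd_of_pow_eq_one hk') (orderOf_dvd_of_pow_eq_one h2)
    rw [Nat.Coprime.gcd_eq_one (Nat.Coprime.pow_left k (by norm_num))] at hd
    exact orderOf_eq_one_iff.mp (Nat.dvd_one.mp hd)
  have hqq : q * q' ∈ K := (QuotientGroup.eq_one_iff _).mp h1
  have := (inferInstance : K.Normal).conj_mem _ hqq b
  rwa [show b * (q * q') * b⁻¹ = q' * (b * q' * b⁻¹) by rw [hq']; group, hq', hq.prod, hq.comm,
    ← mul_assoc, hq.sq', one_mul] at this

/-- `b` centralises the odd cores other than the three-core. -/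
theorem odd_core_comm (hb : IsBlock ρ b) (hq : IsFour b q) {r : ℕ} (hr : r.Prime) (hr2 : r ≠ 2) (hr3 : r ≠ 3)
    {x : S} (hx : x ∈ Cfsg.pCore r S) : b * x * b⁻¹ = x := by
  haveI := Fact.mk hr
  haveI hn : (Cfsg.pCore r S).Normal := Cfsg.Lib.Components.normal_of_mem_sSup_normal fun N hN => hN.1
  have hO := Cfsg.Lib.Components.isPGroup_pCore (G := S) r
  have hnorm : ∀ g : S, g ∈ Subgroup.normalizer (Cfsg.pCore r S : Set S) := fun g => by
    rw [Subgroup.normalizer_eq_top]; trivial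
  rcases eq_or_ne r 13 with rfl | h13
  swap; · exact odd_comm hb hr hr2 hr3 h13 hO (hnorm b) hx
  by_contra hne
  set u := x⁻¹ * (b * x * b⁻¹)
  have hu : IsThirteen ρ b u := isThirteen_comm hb hO (hnorm b) hx hne
  have huO : u ∈ Cfsg.pCore 13 S := (Cfsg.pCore 13 S).mul_mem ((Cfsg.pCore 13 S).inv_mem hx) (hn.conj_mem x hx b)
  have hvO : q * u * q⁻¹ ∈ Cfsg.pCore 13 S := hn.conj_mem u huO q
  set Wu := moved ρ (Subgroup.zpowers u)
  set Wv := moved ρ (Subgroup.zpowers (q * u * q⁻¹))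
  have hle : Wv ≤ Wu.map (ρ q) := moved_le fun g hg v => by
    obtain ⟨n, rfl⟩ := Subgroup.mem_zpowers_iff.mp hg
    refine ⟨ρ (u ^ n) (ρ q⁻¹ v) - ρ q⁻¹ v, sub_mem_moved (Subgroup.zpow_mem _ (Subgroup.mem_zpowers u) n) _, ?_⟩
    rw [map_sub, rho_cancel_inv, conj_zpow, rho_mul, rho_mul]
  have hge : Wu.map (ρ q) ≤ Wv := by
    rw [Submodule.map_le_iff_le_comap]
    refine moved_le fun g hg v => ?_
    obtain ⟨n, rfl⟩ := Subgroup.mem_zpowers_iff.mp hg
    show ρ q (ρ (u ^ n) v - v) ∈ Wv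
    have h := sub_mem_moved (ρ := ρ) (Subgroup.zpow_mem _ (Subgroup.mem_zpowers (q * u * q⁻¹)) n) (ρ q v)
    rwa [conj_zpow, ← rho_mul, inv_mul_cancel_right, rho_mul, ← map_sub] at h
  have hdim : finrank (ZMod 3) Wv ≤ 3 :=
    (Submodule.finrank_mono hle).trans ((Submodule.finrank_map_le _ _).trans (hu.dim_eq hb).le)
  have hmeet : Wu ⊓ Wv ≠ ⊥ := by
    obtain ⟨-, hrange, hW, -⟩ := hq.space hb
    obtain ⟨-, hru⟩ := hu.fixed_moved hb
    set I := LinearMap.range (nil ρ b)
    have h1 : I.map (ρ q) ≤ moved ρ (fourSub b q) := (Submodule.map_mono hrange).trans (by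
      rintro _ ⟨w, hw, rfl⟩
      simpa using (moved ρ (fourSub b q)).add_mem (sub_mem_moved (hq.mem_iff.mpr (by simp)) w) hw)
    have h2 : finrank (ZMod 3) ↥(I.map (ρ q)) = 2 := by
      rw [← hb.rank]
      refine (LinearEquiv.finrank_eq (Submodule.equivMapOfInjective (ρ q) (fun v w h => ?_) I)).symm
      rw [← rho_inv_cancel (ρ := ρ) q v, h, rho_inv_cancel]
    have h3 := Submodule.finrank_sup_add_finrank_inf_eq I (I.map (ρ q))
    have h4 := Submodule.finrank_mono (sup_le hrange h1)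
    have hI : finrank (ZMod 3) I = 2 := hb.rank
    rw [hW] at h4
    intro h0
    have h5 : I ⊓ I.map (ρ q) ≤ ⊥ := h0 ▸ inf_le_inf hru ((Submodule.map_mono hru).trans hge)
    rw [le_bot_iff.mp h5, finrank_bot] at h3
    omega
  have hmem := hu.mem_zpowers hb (Cfsg.pCore 13 S) hO huO hvO hdim hmeet
  refine hu.no_four hb hq ?_
  have hfwd : ∀ g ∈ Subgroup.zpowers u, q * g * q⁻¹ ∈ Subgroup.zpowers u := fun g hg => by
    obtain ⟨n, rfl⟩ := Subgroup.mem_zpowers_iff.mp hg
    rw [← conj_zpow]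
    exact Subgroup.zpow_mem _ hmem n
  rw [Subgroup.mem_normalizer_iff]
  refine fun g => ⟨hfwd g, fun hg => ?_⟩
  have := hfwd _ hg
  rwa [show q * (q * g * q⁻¹) * q⁻¹ = q * q * g * (q * q)⁻¹ by group, hq.sq, one_mul, inv_one, mul_one] at this

/-- `b` moves the two-core. -/
theorem moves_two_core [Group.IsSolvable S] (hb : IsBlock ρ b) (hq : IsFour b q) (hO3 : Cfsg.pCore 3 S = ⊥)
    (hb1 : b ≠ 1) : ∃ x ∈ Cfsg.pCore 2 S, b * x * b⁻¹ ≠ x := by
  haveI : Fact (Nat.Prime 3) := ⟨Nat.prime_three⟩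
  by_contra hall
  push Not at hall
  have h := Cfsg.Lib.Sft.mem_pCore_of_centralizes_fitting (q := 3) (z := b)
    (IsPGroup.of_card (n := 1) (by rw [Nat.card_zpowers, orderOf_eq_prime hb.cube hb1, pow_one])) (fun r hr x hx => ?_)
  · rw [hO3, Subgroup.mem_bot] at h
    exact hb1 h
  · have : b * x * b⁻¹ = x := by
      rcases eq_or_ne r 2 with rfl | h2
      · exact hall x hx
      rcases eq_or_ne r 3 with rfl | h3
      · rw [hO3, Subgroup.mem_bot] at hx
        simp [hx]
      exact odd_core_comm hb hq hr h2 h3 hx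
    conv_lhs => rw [← this]
    group

/-- `b` centralises every odd group of order prime to three that it normalises. -/
theorem odd_comm' [Group.IsSolvable S] (hb : IsBlock ρ b) (hq : IsFour b q) (hO3 : Cfsg.pCore 3 S = ⊥)
    (hb1 : b ≠ 1) {r : ℕ} (hr : r.Prime) (hr2 : r ≠ 2) (hr3 : r ≠ 3) {P : Subgroup S} (hP : IsPGroup r P)
    (hbP : b ∈ Subgroup.normalizer (P : Set S)) {x : S} (hx : x ∈ P) : b * x * b⁻¹ = x := by
  rcases eq_or_ne r 13 with rfl | h13
  swap; · exact odd_comm hb hr hr2 hr3 h13 hP hbP hx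
  by_contra hne
  have hu := isThirteen_comm hb hP hbP hx hne
  obtain ⟨y, hy, hyne⟩ := moves_two_core hb hq hO3 hb1
  haveI hn : (Cfsg.pCore 2 S).Normal := Cfsg.Lib.Components.normal_of_mem_sSup_normal fun N hN => hN.1
  haveI : Fact (Nat.Prime 2) := ⟨Nat.prime_two⟩
  refine hyne (hu.two_comm hb (Cfsg.Lib.Components.isPGroup_pCore 2) ?_ ?_ hy) <;>
    · rw [Subgroup.normalizer_eq_top]; trivial

/-- The commutator group with `b`. -/
def commB (b : S) (K : Subgroup S) : Subgroup S := Subgroup.closure {u | ∃ x ∈ K, u = x⁻¹ * (b * x * b⁻¹)}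

theorem commutator_eq_commB (hb3 : b ^ 3 = 1) {K : Subgroup S} (hK : b ∈ Subgroup.normalizer (K : Set S)) :
    ⁅K, Subgroup.zpowers b⁆ = commB b K := by
  refine le_antisymm ?_ ((Subgroup.closure_le _).mpr ?_)
  · rw [Subgroup.commutator_le]
    intro k hk c hc
    have hconjK : ∀ g ∈ K, b * g * b⁻¹ ∈ K := (normal_conj_inv hK).1
    have hb_inv : ∀ g ∈ commB b K, b * g * b⁻¹ ∈ commB b K := fun g hg => by
      induction hg using Subgroup.closure_induction with
      | mem z hz =>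
        obtain ⟨x, hx, rfl⟩ := hz
        refine Subgroup.subset_closure ⟨b * x * b⁻¹, hconjK x hx, ?_⟩
        group
      | one => simp
      | mul z w _ _ hz hw =>
        rw [show b * (z * w) * b⁻¹ = (b * z * b⁻¹) * (b * w * b⁻¹) by group]
        exact mul_mem hz hw
      | inv z _ hz =>
        rw [show b * z⁻¹ * b⁻¹ = (b * z * b⁻¹)⁻¹ by group]
        exact inv_mem hz
    obtain ⟨n, rfl⟩ := mem_powers_iff_mem_zpowers.mpr hc
    clear hc
    show ⁅k, b ^ n⁆ ∈ commB b K
    induction n with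
    | zero => simp [commutatorElement_def]
    | succ n ih =>
      rw [pow_succ', show ⁅k, b * b ^ n⁆ = (k⁻¹)⁻¹ * (b * k⁻¹ * b⁻¹) * (b * ⁅k, b ^ n⁆ * b⁻¹) by
        simp only [commutatorElement_def]; group]
      exact mul_mem (Subgroup.subset_closure ⟨k⁻¹, inv_mem hk, rfl⟩) (hb_inv _ ih)
  · rintro _ ⟨x, hx, rfl⟩
    have := Subgroup.commutator_mem_commutator (inv_mem hx) (Subgroup.mem_zpowers b)
    rw [commutatorElement_def, inv_inv] at this
    simpa [mul_assoc] using this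

/-- The commutator of the three-prime core with `b`. -/
theorem reduce [Group.IsSolvable S] (hb : IsBlock ρ b) (hq : IsFour b q) (hO3 : Cfsg.pCore 3 S = ⊥) (hb1 : b ≠ 1)
    (hqK : q ∈ Cfsg.pPrimeCore 3 S) :
    ∃ R : Subgroup S, R = ⁅Cfsg.pPrimeCore 3 S, Subgroup.zpowers b⁆ ∧ IsPGroup 2 R ∧
      b ∈ Subgroup.normalizer (R : Set S) ∧ R = commB b R ∧ q ∈ R := by
  classical
  haveI : Fact (Nat.Prime 2) := ⟨Nat.prime_two⟩
  haveI : Fact (Nat.Prime 3) := ⟨Nat.prime_three⟩
  set K := Cfsg.pPrimeCore 3 S with hKdef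
  haveI hKn : K.Normal := Cfsg.Lib.Components.normal_of_mem_sSup_normal fun N hN => hN.1
  set B := Subgroup.zpowers b
  have hBK : B ≤ Subgroup.normalizer (K : Set S) := by rw [Subgroup.normalizer_eq_top]; exact le_top
  have hbK : b ∈ Subgroup.normalizer (K : Set S) := hBK (Subgroup.mem_zpowers b)
  have hcop : (Nat.card B).Coprime (Nat.card K) := by
    rw [Nat.card_zpowers, orderOf_eq_prime hb.cube hb1]
    exact (Cfsg.Lib.Components.coprime_card_pPrimeCore (G := S) 3).symm
  have hsol : Group.IsSolvable B ∨ Group.IsSolvable K := Or.inr inferInstance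
  set C := K ⊓ Subgroup.centralizer (B : Set S) with hC
  -- the odd Sylow subgroups are centralised
  have hodd : ∀ r : ℕ, r.Prime → r ≠ 2 → ∀ k, r ^ k ∣ Nat.card K → r ^ k ∣ Nat.card C := by
    intro r hr hr2 k hk
    haveI := Fact.mk hr
    rcases eq_or_ne r 3 with rfl | hr3
    · rcases Nat.eq_zero_or_pos k with rfl | hk0
      · simp
      · exact absurd ((dvd_pow_self 3 (by omega)).trans hk)
          ((Nat.prime_three.coprime_iff_not_dvd).mp (Cfsg.Lib.Components.coprime_card_pPrimeCore (G := S) 3).symm)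
    obtain ⟨Pr, hPr⟩ := Cfsg.Lib.Coprime.exists_invariant_sylow hBK hcop hsol r
    set P₀ := (Pr : Subgroup K).map K.subtype
    have hle : P₀ ≤ C := le_inf (Subgroup.map_subtype_le _) fun x hx => Subgroup.mem_centralizer_iff.mpr fun c hc => by
      have hfix : b * x * b⁻¹ = x := odd_comm' hb hq hO3 hb1 hr hr2 hr3 (Pr.isPGroup'.map _) (hPr (Subgroup.mem_zpowers b)) hx
      have hcomm : Commute b x := mul_inv_eq_iff_eq_mul.mp hfix
      obtain ⟨n, rfl⟩ := Subgroup.mem_zpowers_iff.mp hc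
      exact (hcomm.zpow_left n).eq
    have h2 := Subgroup.card_dvd_of_le hle
    rw [Subgroup.card_map_of_injective K.subtype_injective] at h2
    exact (Pr.pow_dvd_card_of_pow_dvd_card hk).trans h2
  -- an invariant Sylow two-subgroup containing a Sylow two-subgroup of the centraliser
  obtain ⟨T⟩ := (inferInstance : Nonempty (Sylow 2 C))
  set U := (T : Subgroup C).map C.subtype with hU
  have hUC : U ≤ C := Subgroup.map_subtype_le _
  have hUB : B ≤ Subgroup.normalizer (U : Set S) := fun c hc => by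
    rw [Subgroup.mem_normalizer_iff]
    intro g
    constructor <;> intro hg
    · have := Subgroup.mem_centralizer_iff.mp (hUC hg).2 c hc
      rwa [this, mul_inv_cancel_right]
    · have h' := Subgroup.mem_centralizer_iff.mp (hUC hg).2 c hc
      have e : g = c * g * c⁻¹ := by
        calc g = c⁻¹ * (c * g * c⁻¹ * c) := by group
          _ = c⁻¹ * (c * (c * g * c⁻¹)) := by rw [h']
          _ = c * g * c⁻¹ := by group
      rw [e]; exact hg
  obtain ⟨T₂, hUT, hT₂B⟩ := Cfsg.Lib.Coprime.exists_invariant_sylow_ge hBK hcop hsol 2 (hUC.trans inf_le_left)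
    (T.isPGroup'.map _) hUB
  set K₂ := (T₂ : Subgroup K).map K.subtype with hK₂
  have hK₂K : K₂ ≤ K := Subgroup.map_subtype_le _
  have hK₂p : IsPGroup 2 K₂ := T₂.isPGroup'.map _
  have hbK₂ : b ∈ Subgroup.normalizer (K₂ : Set S) := hT₂B (Subgroup.mem_zpowers b)
  -- `K = C K₂`
  have hprod : ∀ x ∈ K, ∃ c ∈ C, ∃ k ∈ K₂, x = c * k := by
    let f : C × K₂ → K := fun p => ⟨p.1 * p.2, K.mul_mem p.1.2.1 (hK₂K p.2.2)⟩
    suffices hsur : Function.Surjective f by
      intro x hx
      obtain ⟨⟨c, k⟩, hck⟩ := hsur ⟨x, hx⟩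
      exact ⟨c, c.2, k, k.2, (congrArg Subtype.val hck).symm⟩
    -- count fibres
    have hfib : ∀ y : K, Nat.card {p : C × K₂ // f p = y} ≤ Nat.card ↥(C ⊓ K₂) := by
      intro y
      rcases isEmpty_or_nonempty {p : C × K₂ // f p = y} with h | ⟨⟨⟨c₀, k₀⟩, h₀⟩⟩
      · simp
      refine Nat.card_le_card_of_injective (fun p => ⟨(c₀ : S)⁻¹ * (p.1.1 : S), ?_, ?_⟩) ?_
      · exact C.mul_mem (C.inv_mem c₀.2) p.1.1.2
      · have h1 : (p.1.1 : S) * (p.1.2 : S) = (c₀ : S) * (k₀ : S) := congrArg Subtype.val (p.2.trans h₀.symm)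
        have : (c₀ : S)⁻¹ * (p.1.1 : S) = (k₀ : S) * (p.1.2 : S)⁻¹ := by
          rw [eq_mul_inv_iff_mul_eq, mul_assoc, h1, inv_mul_cancel_left]
        rw [this]
        exact K₂.mul_mem k₀.2 (K₂.inv_mem p.1.2.2)
      · rintro ⟨⟨c, k⟩, h⟩ ⟨⟨c', k'⟩, h'⟩ e
        have hcc : c = c' := Subtype.ext (mul_left_cancel (congrArg Subtype.val e))
        subst hcc
        have hkk : k = k' := Subtype.ext (mul_left_cancel (congrArg Subtype.val (h.trans h'.symm)))
        subst hkk
        rfl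
    have hcard : Nat.card K * Nat.card ↥(C ⊓ K₂) ≤ Nat.card C * Nat.card K₂ := by
      refine Nat.le_of_dvd (Nat.mul_pos Nat.card_pos Nat.card_pos) ?_
      obtain ⟨t, ht⟩ := IsPGroup.iff_card.mp (hK₂p.to_le (inf_le_right : C ⊓ K₂ ≤ K₂))
      rw [ht, Nat.dvd_iff_prime_pow_dvd_dvd]
      intro r k hr hk
      rcases eq_or_ne r 2 with rfl | hr2
      · have hTc : 2 ^ t ∣ Nat.card C := ht ▸ Subgroup.card_dvd_of_le (inf_le_left : C ⊓ K₂ ≤ C)
        obtain ⟨e, he⟩ := IsPGroup.iff_card.mp hK₂p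
        have hK2e : ∀ j, 2 ^ j ∣ Nat.card K → j ≤ e := fun j hj => by
          have := T₂.pow_dvd_card_of_pow_dvd_card hj
          rw [← Subgroup.card_map_of_injective K.subtype_injective, ← hK₂, he,
            Nat.pow_dvd_pow_iff_le_right (by norm_num)] at this
          exact this
        have hke : k ≤ e + t := by
          rcases Nat.lt_or_ge k t with h | h
          · omega
          · have := hK2e (k - t) (Nat.dvd_of_mul_dvd_mul_right (show 0 < 2 ^ t by positivity) (by
              rwa [← pow_add, Nat.sub_add_cancel h]))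
            omega
        calc 2 ^ k ∣ 2 ^ (t + e) := pow_dvd_pow 2 (by omega)
          _ ∣ Nat.card C * Nat.card K₂ := by rw [pow_add, he]; exact Nat.mul_dvd_mul hTc dvd_rfl
      · have hk' : r ^ k ∣ Nat.card K :=
          (Nat.Coprime.pow _ _ ((Nat.coprime_primes hr Nat.prime_two).mpr hr2)).dvd_of_dvd_mul_right hk
        exact (hodd r hr hr2 k hk').trans (dvd_mul_right _ _)
    haveI := Fintype.ofFinite K
    haveI := Fintype.ofFinite (C × K₂)
    intro y
    by_contra hy
    push Not at hy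
    have hsum : Nat.card (C × K₂) = ∑ z : K, Nat.card {p : C × K₂ // f p = z} := by
      rw [← Nat.card_sigma]
      exact Nat.card_congr (Equiv.sigmaFiberEquiv f).symm
    have hy0 : Nat.card {p : C × K₂ // f p = y} = 0 := by
      rw [Nat.card_eq_zero]; exact Or.inl ⟨fun p => hy p.1 p.2⟩
    have hlt : ∑ z : K, Nat.card {p : C × K₂ // f p = z} < ∑ _z : K, Nat.card ↥(C ⊓ K₂) :=
      Finset.sum_lt_sum (fun z _ => hfib z) ⟨y, Finset.mem_univ y, hy0 ▸ Nat.card_pos⟩
    rw [← hsum, Nat.card_prod, Finset.sum_const, Finset.card_univ, smul_eq_mul, ← Nat.card_eq_fintype_card] at hlt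
    omega
  have hKK₂ : commB b K = commB b K₂ := by
    refine le_antisymm ((Subgroup.closure_le _).mpr ?_) (Subgroup.closure_mono ?_)
    swap
    · rintro _ ⟨x, hx, rfl⟩; exact ⟨x, hK₂K hx, rfl⟩
    rintro _ ⟨x, hx, rfl⟩
    obtain ⟨c, hc, k, hk, rfl⟩ := hprod x hx
    refine Subgroup.subset_closure ⟨k, hk, ?_⟩
    have hbc : b * c = c * b := Subgroup.mem_centralizer_iff.mp hc.2 b (Subgroup.mem_zpowers b)
    rw [show b * (c * k) * b⁻¹ = (b * c) * k * b⁻¹ by group, hbc]
    group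
  set R := ⁅K, B⁆ with hR
  have hRK₂ : R = commB b K₂ := (commutator_eq_commB hb.cube hbK).trans hKK₂
  have hbR : b ∈ Subgroup.normalizer (R : Set S) :=
    Cfsg.Lib.Coprime.le_normalizer_commutator_right B K (Subgroup.mem_zpowers b)
  have hqR : q ∈ R := by
    have h1 : q * (b * q * b⁻¹) ∈ R := by
      rw [hR, commutator_eq_commB hb.cube hbK]
      refine Subgroup.subset_closure ⟨q, hqK, ?_⟩
      rw [inv_eq_of_mul_eq_one_right hq.sq]
    have h2 := (Subgroup.mem_normalizer_iff.mp hbR _).mp h1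
    rwa [show b * (q * (b * q * b⁻¹)) * b⁻¹ = (b * q * b⁻¹) * (b * (b * q * b⁻¹) * b⁻¹) by group, hq.prod, hq.comm,
      ← mul_assoc, hq.sq', one_mul] at h2
  refine ⟨R, rfl, ?_, hbR, ?_, hqR⟩
  · rw [hRK₂]
    refine hK₂p.to_le ((Subgroup.closure_le _).mpr ?_)
    rintro _ ⟨x, hx, rfl⟩
    exact K₂.mul_mem (K₂.inv_mem hx) ((Subgroup.mem_normalizer_iff.mp hbK₂ x).mp hx)
  · rw [← commutator_eq_commB hb.cube hbR, hR, Cfsg.Lib.Coprime.commutator_commutator_eq hBK hcop hsol]

end Cfsg.Lib.CubicBlock
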