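import Cfsg.Agent.CubicBlock.Odd

/-!
# The thirteen case cannot meet normalised two-groups moved by `b`
-/

set_option autoImplicit false
set_option linter.unusedSectionVars false

namespace Cfsg.Lib.CubicBlock

open Module

variable {S : Type*} [Group S] [Finite S] {E : Type*} [AddCommGroup E] [Module (ZMod 3) E] [Finite E]
  {ρ : Representation (ZMod 3) S E} {b u : S}

variable (ρ) in
/-- The elements fixing a subspace pointwise. -/
def fixingSub (W : Submodule (ZMod 3) E) : Subgroup S where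
  carrier := {g | ∀ v ∈ W, ρ g v = v}
  one_mem' := fun v _ => by simp
  mul_mem' := fun {g h} hg hh v hv => by rw [rho_mul, hh v hv, hg v hv]
  inv_mem' := fun {g} hg v hv => by conv_lhs => rw [← hg v hv, rho_inv_cancel]

theorem eq_zero_of_neg {v : E} (h : -v = v) : v = 0 := by
  have := three_smul v
  linear_combination (norm := module) this + h

theorem two_pow_mod : ∀ a, a < 11 → ∀ c, c < a + 1 → 2 ^ a % 13 = 2 ^ c % 13 → c = a := by decide

/-- The image of `ρ b - 1` cannot lie in both the fixed and the moved space of a three-prime group. -/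
theorem IsBlock.range_not_fixed (hb : IsBlock ρ b) {H : Subgroup S} (hH : ¬ 3 ∣ Nat.card H)
    (hm : LinearMap.range (nil ρ b) ≤ moved ρ H) : ¬ LinearMap.range (nil ρ b) ≤ fixed ρ H := by
  intro hf
  have h0 : LinearMap.range (nil ρ b) = ⊥ :=
    le_bot_iff.mp ((le_inf hf hm).trans (isCompl_fixed_moved (ρ := ρ) hH).disjoint.le_bot)
  have := hb.rank
  rw [h0, finrank_bot] at this
  omega

namespace IsThirteen

theorem map_b (hb : IsBlock ρ b) (hu : IsThirteen ρ b u) {v : E} (hv : v ∈ moved ρ (Subgroup.zpowers u)) :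
    ρ b v ∈ moved ρ (Subgroup.zpowers u) ∧ ρ b⁻¹ v ∈ moved ρ (Subgroup.zpowers u) :=
  ⟨map_moved (normal_conj_inv (hu.b_normalizes hb)).1 hv,
    map_moved (normal_conj_inv (inv_mem (hu.b_normalizes hb))).1 hv⟩

theorem neg_conj (hb : IsBlock ρ b) (hu : IsThirteen ρ b u) {g : S}
    (hg : ∀ v ∈ moved ρ (Subgroup.zpowers u), ρ g v = -v) :
    ∀ v ∈ moved ρ (Subgroup.zpowers u), ρ (b * g * b⁻¹) v = -v := fun v hv => by
  rw [rho_mul, rho_mul, hg _ (hu.map_b hb hv).2, map_neg, rho_cancel_inv]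

/-- `b` centralises every two-group normalised by it and by `u`. -/
theorem two_comm (hb : IsBlock ρ b) (hu : IsThirteen ρ b u) {O : Subgroup S} (hO : IsPGroup 2 O)
    (hbO : b ∈ Subgroup.normalizer (O : Set S)) (huO : u ∈ Subgroup.normalizer (O : Set S)) {x : S} (hx : x ∈ O) :
    b * x * b⁻¹ = x := by
  haveI : Fact (Nat.Prime 13) := ⟨by norm_num⟩
  set W := moved ρ (Subgroup.zpowers u) with hWdef
  obtain ⟨-, hrange⟩ := hu.fixed_moved hb
  set w := x⁻¹ * (b * x * b⁻¹) with hw
  suffices h : w = 1 by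
    calc b * x * b⁻¹ = x * w := by rw [hw, mul_inv_cancel_left]
      _ = x := by rw [h, mul_one]
  set U := W ⊔ support ρ b x
  have hU : finrank (ZMod 3) U ≤ 5 := by
    have h1 := Submodule.finrank_sup_add_finrank_inf_eq W (support ρ b x)
    have h2 : finrank (ZMod 3) (LinearMap.range (nil ρ b)) ≤ finrank (ZMod 3) ↥(W ⊓ support ρ b x) :=
      Submodule.finrank_mono (le_inf hrange le_sup_left)
    rw [hb.rank] at h2
    have h3 := hb.finrank_support x
    have h4 : finrank (ZMod 3) W = 3 := hu.dim_eq hb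
    show finrank (ZMod 3) ↥(W ⊔ support ρ b x) ≤ 5
    omega
  set N := O ⊓ moveSub ρ U with hN
  have huU : u ∈ moveSub ρ U := fun v => Submodule.mem_sup_left (sub_mem_moved (Subgroup.mem_zpowers u) v)
  have hbU : b ∈ moveSub ρ U := b_mem_moveSub (hrange.trans le_sup_left)
  have hconjN : ∀ g ∈ moveSub ρ U, g ∈ Subgroup.normalizer (O : Set S) → ∀ h ∈ N, g * h * g⁻¹ ∈ N := fun g hg hgO h hh =>
    ⟨(Subgroup.mem_normalizer_iff.mp hgO h).mp hh.1,
      (moveSub ρ U).mul_mem ((moveSub ρ U).mul_mem hg hh.2) ((moveSub ρ U).inv_mem hg)⟩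
  have hwN : w ∈ N := ⟨O.mul_mem (O.inv_mem hx) ((Subgroup.mem_normalizer_iff.mp hbO x).mp hx),
    fun v => Submodule.mem_sup_right (comm_mem_support x v)⟩
  have hN2 : IsPGroup 2 N := hO.to_le inf_le_left
  have hcent : ∀ h ∈ N, h * u = u * h := by
    have hpow : ∀ g : Subgroup.zpowers u, ∀ h ∈ N, (g : S) * h * (g : S)⁻¹ ∈ N := fun g =>
      hconjN _ (Subgroup.zpowers_le.mpr huU g.2) (Subgroup.zpowers_le.mpr huO g.2)
    letI : MulAction (Subgroup.zpowers u) N :=
      { smul := fun g h => ⟨(g : S) * h * (g : S)⁻¹, hpow g h h.2⟩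
        one_smul := fun h => Subtype.ext (by
          show ((1 : Subgroup.zpowers u) : S) * h * ((1 : Subgroup.zpowers u) : S)⁻¹ = h; simp)
        mul_smul := fun g g' h => Subtype.ext (by
          show ((g * g' : Subgroup.zpowers u) : S) * h * ((g * g' : Subgroup.zpowers u) : S)⁻¹
            = (g : S) * ((g' : S) * h * (g' : S)⁻¹) * (g : S)⁻¹
          simp only [Subgroup.coe_mul, mul_inv_rev, mul_assoc]) }
    have hp : IsPGroup 13 (Subgroup.zpowers u) := IsPGroup.of_card (n := 1) (by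
      rw [Nat.card_zpowers, hu.order, pow_one])
    have hmod := hp.card_modEq_card_fixedPoints (α := N)
    set C := N ⊓ Subgroup.centralizer ({u} : Set S)
    have hfix : Nat.card (MulAction.fixedPoints (Subgroup.zpowers u) N) = Nat.card C := by
      refine Nat.card_congr
        { toFun := fun h => ⟨(h.1 : S), h.1.2, Subgroup.mem_centralizer_singleton_iff.mpr ?_⟩
          invFun := fun h => ⟨⟨h.1, h.2.1⟩, fun g => ?_⟩
          left_inv := fun h => rfl
          right_inv := fun h => rfl }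
      · have e : u * (h.1 : S) * u⁻¹ = (h.1 : S) := congrArg Subtype.val (h.2 ⟨u, Subgroup.mem_zpowers u⟩)
        conv_lhs => rw [← e]
        rw [inv_mul_cancel_right]
      · refine Subtype.ext ?_
        show (g : S) * (h.1 : S) * (g : S)⁻¹ = h.1
        obtain ⟨n, hn⟩ := Subgroup.mem_zpowers_iff.mp g.2
        rw [← hn, (Commute.zpow_left
          (show Commute u (h.1 : S) from (Subgroup.mem_centralizer_singleton_iff.mp h.2.2).symm) n).eq,
          mul_inv_cancel_right]
    rw [hfix] at hmod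
    obtain ⟨a, ha⟩ := IsPGroup.iff_card.mp hN2
    obtain ⟨c, hc⟩ := IsPGroup.iff_card.mp (hN2.to_le (inf_le_left : C ≤ N))
    have hd := (card_dvd_of_le_moveSub hb.inj (not_three_dvd_of_isPGroup Nat.prime_two (by norm_num) hN2)
      inf_le_right).trans (glCard_five hU)
    rw [ha] at hd
    have ha10 : a ≤ 10 := by
      by_contra hlt
      have := (pow_dvd_pow 2 (show 11 ≤ a by omega)).trans hd
      norm_num at this
    have hca : c ≤ a := by
      have := Subgroup.card_le_of_le (inf_le_left : C ≤ N)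
      rw [ha, hc] at this
      exact (Nat.pow_le_pow_iff_right (by norm_num)).mp this
    rw [ha, hc] at hmod
    have hca' : c = a := two_pow_mod a (by omega) c (by omega) hmod
    have hCN : C = N := Subgroup.eq_of_le_of_card_ge inf_le_left (by rw [ha, hc, hca'])
    intro h hh
    exact Subgroup.mem_centralizer_singleton_iff.mp (hCN ▸ hh : h ∈ C).2
  have hwb : b * w * b⁻¹ ∈ N := hconjN b hbU hbO w hwN
  have hwbb : b * (b * w * b⁻¹) * b⁻¹ ∈ N := hconjN b hbU hbO _ hwb
  have hprod : w * (b * w * b⁻¹) * (b * (b * w * b⁻¹) * b⁻¹) = 1 := by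
    have h3 := conj_conj_conj hb.cube x
    rw [hw]
    calc x⁻¹ * (b * x * b⁻¹) * (b * (x⁻¹ * (b * x * b⁻¹)) * b⁻¹)
          * (b * (b * (x⁻¹ * (b * x * b⁻¹)) * b⁻¹) * b⁻¹)
        = x⁻¹ * (b * (b * (b * x * b⁻¹) * b⁻¹) * b⁻¹) := by group
      _ = 1 := by rw [h3, inv_mul_cancel]
  have htriv : ∀ v ∈ W, ρ w v = v := by
    obtain ⟨k, hk⟩ := hN2 ⟨w, hwN⟩
    rcases hu.scalar_two hb (k := k) (g := w) (by simpa using congrArg Subtype.val hk) (hcent w hwN) with h | h
    · exact h
    · intro v hv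
      have h1 := hu.neg_conj hb h
      have h2 := hu.neg_conj hb h1
      have e := congrArg (fun g => ρ g v) hprod
      simp only [map_one, Module.End.one_apply, rho_mul w, rho_mul (w * (b * w * b⁻¹)), h2 v hv, map_neg,
        h1 v hv, h v hv, neg_neg] at e
      rw [eq_zero_of_neg e, map_zero]
  set H := O ⊓ Subgroup.centralizer (Subgroup.zpowers u : Set S) ⊓ fixingSub ρ W
  have hbH : b ∈ Subgroup.normalizer (H : Set S) := by
    refine b_mem_normalizer hb.cube fun g hg => ⟨⟨(Subgroup.mem_normalizer_iff.mp hbO g).mp hg.1.1,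
      Subgroup.mem_centralizer_iff.mpr fun h hh => ?_⟩, fun v hv => ?_⟩
    · have h' : b⁻¹ * h * b ∈ Subgroup.zpowers u := (normal_conj_inv (hu.b_normalizes hb)).2 h hh
      have := Subgroup.mem_centralizer_iff.mp hg.1.2 _ h'
      calc h * (b * g * b⁻¹) = b * (b⁻¹ * h * b * g) * b⁻¹ := by group
        _ = b * (g * (b⁻¹ * h * b)) * b⁻¹ := by rw [this]
        _ = b * g * b⁻¹ * h := by group
    · rw [rho_mul, rho_mul, hg.2 _ (hu.map_b hb hv).2, rho_cancel_inv]
  have hwH : w ∈ H := ⟨⟨hwN.1, Subgroup.mem_centralizer_iff.mpr fun h hh => by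
    obtain ⟨n, rfl⟩ := Subgroup.mem_zpowers_iff.mp hh
    exact ((Commute.zpow_right (show Commute w u from hcent w hwN) n)).eq.symm⟩, htriv⟩
  have h3H : ¬ 3 ∣ Nat.card H :=
    not_three_dvd_of_isPGroup Nat.prime_two (by norm_num) (hO.to_le (inf_le_left.trans inf_le_left))
  by_contra hne
  refine hne (comm_eq_one_of_fixed hb.cube h3H hw hwH ?_)
  by_contra hc
  have hnc : b ∉ Subgroup.centralizer (H : Set S) := fun h => hc (by
    rw [← Subgroup.mem_centralizer_iff.mp h w hwH, mul_inv_cancel_right])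
  refine hb.range_not_fixed h3H (hb.fixed_moved h3H hbH hnc).2 (hrange.trans fun v hv => ?_)
  exact mem_fixed.mpr fun g hg => hg.2 v hv

/-- No four group moved by `b` normalises `⟨u⟩`. -/
theorem no_four (hb : IsBlock ρ b) (hu : IsThirteen ρ b u) {q : S} (hq : IsFour b q)
    (hqu : q ∈ Subgroup.normalizer (Subgroup.zpowers u : Set S)) : False := by
  set q' := b * q * b⁻¹ with hq'
  obtain ⟨i, hi⟩ := Subgroup.mem_zpowers_iff.mp ((Subgroup.mem_normalizer_iff.mp hqu u).mp (Subgroup.mem_zpowers u))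
  obtain ⟨j, hj⟩ := Subgroup.mem_zpowers_iff.mp
    ((normal_conj_inv (hu.b_normalizes hb)).2 u (Subgroup.mem_zpowers u))
  have huj : u = (b * u * b⁻¹) ^ j := by rw [conj_zpow, hj]; group
  have hiq' : q' * u * q'⁻¹ = u ^ i := by
    have h1 : q' * (b * u * b⁻¹) * q'⁻¹ = (b * u * b⁻¹) ^ i := by
      rw [conj_zpow, hi, hq']; group
    calc q' * u * q'⁻¹ = q' * (b * u * b⁻¹) ^ j * q'⁻¹ := by rw [← huj]
      _ = ((b * u * b⁻¹) ^ j) ^ i := by rw [← conj_zpow, h1, ← zpow_mul, ← zpow_mul, mul_comm]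
      _ = u ^ i := by rw [← huj]
  have ht : (q * q') * u * (q * q')⁻¹ = u := by
    rw [show q * q' * u * (q * q')⁻¹ = q * (q' * u * q'⁻¹) * q⁻¹ by group, hiq', ← conj_zpow, ← hi,
      ← zpow_mul]
    calc u ^ (i * i) = q * (q * u * q⁻¹) * q⁻¹ := by rw [← hi, ← conj_zpow, ← hi, ← zpow_mul]
      _ = q * q * u * (q * q)⁻¹ := by group
      _ = u := by rw [hq.sq]; group
  have hqc : q * u = u * q := by
    have hbt : b * (q * q') * b⁻¹ = q := by
      rw [show b * (q * q') * b⁻¹ = q' * (b * q' * b⁻¹) by rw [hq']; group, hq', hq.prod, ← hq', hq.comm,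
        ← mul_assoc, hq.sq', one_mul]
    have h1 : Commute q (b * u * b⁻¹) := by
      show q * (b * u * b⁻¹) = b * u * b⁻¹ * q
      conv_lhs => rw [← hbt, show b * (q * q') * b⁻¹ * (b * u * b⁻¹) = b * ((q * q') * u) * b⁻¹ by group,
        mul_inv_eq_iff_eq_mul.mp ht]
      conv_rhs => rw [← hbt]
      group
    have h2 := h1.zpow_right j
    rwa [← huj] at h2
  have hq'c : q' * u = u * q' := by
    have h1 : Commute q' (b * u * b⁻¹) := by
      show q' * (b * u * b⁻¹) = b * u * b⁻¹ * q'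
      rw [hq', show b * q * b⁻¹ * (b * u * b⁻¹) = b * (q * u) * b⁻¹ by group, hqc]
      group
    have h2 := h1.zpow_right j
    rwa [← huj] at h2
  obtain ⟨-, hrange⟩ := hu.fixed_moved hb
  rcases hu.scalar_two hb (k := 1) (g := q) (by rw [pow_one, pow_two]; exact hq.sq) hqc with h | h
  · refine hb.range_not_fixed hq.card_not_dvd (hq.space hb).2.1 (hrange.trans fun v hv => mem_fixed.mpr fun g hg => ?_)
    have h' : ρ q' v = v := by rw [hq', rho_mul, rho_mul, h _ (hu.map_b hb hv).2, rho_cancel_inv]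
    rcases hq.mem_iff.mp hg with hg' | hg' | hg' | hg' <;> rw [hg']
    · simp
    · exact h v hv
    · exact h'
    · rw [rho_mul, h', h v hv]
  · have h' := hu.neg_conj hb h
    have h'' := hu.neg_conj hb h'
    have hz : ∀ v ∈ moved ρ (Subgroup.zpowers u), v = 0 := fun v hv => by
      have e := h'' v hv
      rw [hq.prod, rho_mul, h' v hv, map_neg, h v hv, neg_neg] at e
      exact eq_zero_of_neg e.symm
    have h3 := hu.dim_eq hb
    rw [show moved ρ (Subgroup.zpowers u) = ⊥ from eq_bot_iff.mpr fun v hv => (Submodule.mem_bot _).mpr (hz v hv),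
      finrank_bot] at h3
    omega

end IsThirteen

end Cfsg.Lib.CubicBlock
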